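import Cfsg.Agent.Lib.Leech.Octad.Kernel
import Cfsg.Agent.Lib.Extraspecial.Setting

/-!
The kernel is extraspecial of order 512.
-/

set_option autoImplicit false
set_option maxRecDepth 20000

namespace CfsgLib.Leech.Octad

open Cfsg CfsgLib.Golay CfsgLib.Leech CfsgLib.Classical.SympTrans
open scoped commutatorElement

attribute [local irreducible] dL bL key keyL coord packB linL bits

/-- code words off the octad -/
def offL : List ℕ := codeList.filter fun m => m &&& oct0 == 0

/-- whether the permutation moves the word -/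
def eps (P m : ℕ) : Bool := mimg P m != m

theorem sign_chk : (trans6.all fun P => offL.all fun m => (List.range 24).all fun i =>
    (m.testBit (ap P i) != m.testBit i) == (eps P m && d16.testBit i)) = true ∧
    (trans6.all fun P => offL.all fun m => (P == powP P 0 && (m == 0 || m == d16)) ||
      trans6.any fun P' => offL.any fun m' => eps P m' != eps P' m) = true ∧
    (trans6.any fun P => trans6.any fun P' => offL.any fun m => offL.any fun m' =>
      eps P m' != eps P' m) = true ∧ offL.length = 32 := by decide +kernel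

theorem inM24_trans {P : ℕ} (hP : P ∈ trans6) : inM24 P = true ∧ toPerm P ∈ fixH M24 F6 := by
  have h := List.all_eq_true.1 trans6_chk.1 P hP
  rw [Bool.and_eq_true] at h
  have hv : validP P = true := by
    have := h.1
    simp only [inM24, Bool.and_eq_true] at this
    exact this.1
  exact ⟨h.1, mem_fixH.2 ⟨toPerm_mem_M24 h.1, fun p hp => fixes_apply hv h.2 hp⟩⟩

theorem valid_trans {P : ℕ} (hP : P ∈ trans6) : validP P = true := by
  have := (inM24_trans hP).1
  simp only [inM24, Bool.and_eq_true] at this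
  exact this.1

theorem offL_props {m : ℕ} (hm : m ∈ offL) :
    dec m ∈ CS ∧ Disjoint (dec m) (dec oct0) ∧ m < 2 ^ 24 := by
  rw [offL, List.mem_filter, beq_iff_eq] at hm
  refine ⟨mem_supports_codeList.2 ⟨m, hm.1, rfl⟩, ?_, codeList_lt hm.1⟩
  rw [Finset.disjoint_iff_inter_eq_empty, ← dec_and, hm.2]
  ext p
  simp [mem_dec]

theorem mem_offL {d : Finset GolayPt} (hd : d ∈ CS) (hdis : Disjoint d (dec oct0)) :
    ∃ m ∈ offL, dec m = d := by
  obtain ⟨m, hm, rfl⟩ := mem_supports_codeList.1 hd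
  refine ⟨m, List.mem_filter.2 ⟨hm, beq_iff_eq.2 ?_⟩, rfl⟩
  refine dec_inj (lt_of_le_of_lt Nat.and_le_left (codeList_lt hm)) (by norm_num) ?_
  rw [dec_and, Finset.disjoint_iff_inter_eq_empty.1 hdis]
  ext p
  simp [mem_dec]

/-- signs along the permutation -/
theorem sign_flip {P m : ℕ} (hP : P ∈ trans6) (hm : m ∈ offL) (i : GolayPt) :
    toPerm P i ∈ dec m ↔ ((i ∈ dec m) ↔ ¬(eps P m = true ∧ i ∈ dec d16)) := by
  have h := List.all_eq_true.1 (List.all_eq_true.1 (List.all_eq_true.1 sign_chk.1 P hP) m hm) (idx i)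
    (List.mem_range.2 (idx_lt i))
  rw [mem_dec, mem_dec, mem_dec, idx_toPerm (valid_trans hP)]
  revert h
  generalize m.testBit (ap P (idx i)) = a
  generalize m.testBit (idx i) = b
  generalize eps P m = c
  generalize d16.testBit (idx i) = e
  cases a <;> cases b <;> cases c <;> cases e <;> decide

theorem comm_perm {a b : Equiv.Perm GolayPt} (ha : a ∈ fixH M24 F6) (hb : b ∈ fixH M24 F6) :
    a * b = b * a := by
  have h1 := sq_fixF6 ha
  have h2 := sq_fixF6 hb
  have h3 := sq_fixF6 (mul_mem ha hb)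
  calc a * b = (a * b)⁻¹ := eq_inv_of_mul_eq_one_left h3
    _ = b * a := by rw [mul_inv_rev, inv_eq_of_mul_eq_one_left h1, inv_eq_of_mul_eq_one_left h2]

theorem out_perm {σ : Equiv.Perm GolayPt} (hσ : σ ∈ fixH M24 F6) (i : GolayPt) :
    σ i ∈ dec d16 ↔ i ∈ dec d16 := by
  have hfix : ∀ p ∈ dec oct0, σ p = p :=
    (mem_fixH.1 (show σ ∈ fixH M24 oct0 from (show fixH M24 oct0 = fixH M24 F6 from fix_oct0_eq).symm ▸ hσ)).2
  rw [mem_d16, mem_d16]
  exact not_congr ⟨fun h => by rwa [← σ.injective (hfix _ h)], fun h => by rwa [hfix _ h]⟩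

/-- products of two of the signed permutations -/
theorem mono_comm {P P' m m' : ℕ} (hP : P ∈ trans6) (hP' : P' ∈ trans6) (hm : m ∈ offL) (hm' : m' ∈ offL)
    (hσ : toPerm P ∈ M24) (hd : dec m ∈ CS) (hσ' : toPerm P' ∈ M24) (hd' : dec m' ∈ CS) :
    mono hσ hd * mono hσ' hd' =
      mono hσ' hd' * mono hσ hd * (if (eps P m' != eps P' m) = true then tO else 1) := by
  have hc := comm_perm (inM24_trans hP).2 (inM24_trans hP').2
  refine aut_ext fun v => Subtype.ext (funext fun i => ?_)
  have e1 : toPerm P' (toPerm P i) = toPerm P (toPerm P' i) := by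
    rw [← Equiv.Perm.mul_apply, ← Equiv.Perm.mul_apply, hc]
  have ho := (out_perm (inM24_trans hP).2 (toPerm P' i)).trans (out_perm (inM24_trans hP').2 i)
  have f1 := sign_flip hP hm' i
  have f2 := sign_flip hP' hm i
  by_cases hε : (eps P m' != eps P' m) = true
  · rw [if_pos hε, mul_smul, mul_smul, mul_smul, mono, mono, tO, mono, Iso.aut_smul, Iso.aut_smul,
      Iso.aut_smul, Iso.aut_smul, Iso.aut_smul]
    show monoFun _ _ (monoFun _ _ _) i = monoFun _ _ (monoFun _ _ (monoFun _ _ _)) i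
    simp only [monoFun, Equiv.Perm.one_apply, e1, ho]
    revert hε f1 f2
    generalize eps P m' = a
    generalize eps P' m = b
    by_cases p1 : i ∈ dec m <;> by_cases p2 : i ∈ dec m' <;> by_cases p3 : toPerm P i ∈ dec m' <;>
      by_cases p4 : toPerm P' i ∈ dec m <;> by_cases p5 : i ∈ dec d16 <;> cases a <;> cases b <;>
      simp [p1, p2, p3, p4, p5]
  · rw [if_neg hε, mul_one, mul_smul, mul_smul, mono, mono, Iso.aut_smul, Iso.aut_smul, Iso.aut_smul,
      Iso.aut_smul]
    show monoFun _ _ (monoFun _ _ _) i = monoFun _ _ (monoFun _ _ _) i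
    simp only [monoFun, e1]
    revert hε f1 f2
    generalize eps P m' = a
    generalize eps P' m = b
    by_cases p1 : i ∈ dec m <;> by_cases p2 : i ∈ dec m' <;> by_cases p3 : toPerm P i ∈ dec m' <;>
      by_cases p4 : toPerm P' i ∈ dec m <;> by_cases p5 : i ∈ dec d16 <;> cases a <;> cases b <;>
      simp [p1, p2, p3, p4, p5]

theorem mono_sq {P m : ℕ} (hP : P ∈ trans6) (hm : m ∈ offL) (hσ : toPerm P ∈ M24) (hd : dec m ∈ CS) :
    mono hσ hd * mono hσ hd = if eps P m = true then tO else 1 := by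
  refine aut_ext fun v => Subtype.ext (funext fun i => ?_)
  have e1 : toPerm P (toPerm P i) = i := by
    rw [← Equiv.Perm.mul_apply, sq_fixF6 (inM24_trans hP).2, Equiv.Perm.one_apply]
  have f1 := sign_flip hP hm i
  by_cases hε : eps P m = true
  · rw [if_pos hε, mul_smul, mono, tO, mono, Iso.aut_smul, Iso.aut_smul, Iso.aut_smul]
    show monoFun _ _ (monoFun _ _ _) i = monoFun _ _ _ i
    simp only [monoFun, Equiv.Perm.one_apply, e1]
    by_cases p1 : i ∈ dec m <;> by_cases p3 : toPerm P i ∈ dec m <;> by_cases p5 : i ∈ dec d16 <;>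
      simp [p1, p3, p5, hε] at f1 ⊢
  · rw [if_neg hε, one_smul, mul_smul, mono, Iso.aut_smul, Iso.aut_smul]
    show monoFun _ _ (monoFun _ _ _) i = _
    simp only [monoFun, e1]
    by_cases p1 : i ∈ dec m <;> by_cases p3 : toPerm P i ∈ dec m <;>
      simp [p1, p3, hε] at f1 ⊢

/-- the kernel -/
noncomputable abbrev KT : Subgroup ↥CT := toSp.ker

/-- the underlying automorphism of an element of the kernel -/
noncomputable def valK : ↥KT →* ↥Co0 := SU.subtype.comp (CT.subtype.comp KT.subtype)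

theorem valK_injective : Function.Injective valK :=
  fun _ _ h => Subtype.ext (Subtype.ext (Subtype.ext h))

instance : Finite ↥Co0 := finite_Co0

theorem exists_form (k : ↥KT) : ∃ P ∈ trans6, ∃ m ∈ offL, ∃ (hσ : toPerm P ∈ M24) (hd : dec m ∈ CS),
    valK k = mono hσ hd := by
  obtain ⟨σ, d, hσ, hd, hσF, hdis, he⟩ := kernel_form (MonoidHom.mem_ker.1 k.2)
  obtain ⟨P, hP, -, rfl⟩ := mem_fixF6 hσF
  obtain ⟨m, hm, rfl⟩ := mem_offL hd hdis
  exact ⟨P, hP, m, hm, hσ, hd, he⟩

theorem exists_elt {P m : ℕ} (hP : P ∈ trans6) (hm : m ∈ offL) :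
    ∃ (k : ↥KT) (hσ : toPerm P ∈ M24) (hd : dec m ∈ CS), valK k = mono hσ hd := by
  obtain ⟨g, hg, hg1⟩ := mem_kernel (mem_fixH.1 (inM24_trans hP).2).1 (offL_props hm).1
    (inM24_trans hP).2 (offL_props hm).2.1
  exact ⟨⟨g, MonoidHom.mem_ker.2 hg1⟩, _, _, hg⟩

theorem tS_mem : tS ∈ CT := Subgroup.mem_centralizer_singleton_iff.2 rfl

theorem toSp_tS : toSp ⟨tS, tS_mem⟩ = 1 :=
  toSp_eq_one_iff.2 fun v hv => by rw [show auto ⟨tS, tS_mem⟩ • v = v from inO_iff.1 hv.1]

/-- the involution in the kernel -/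
noncomputable def zK : ↥KT := ⟨⟨tS, tS_mem⟩, MonoidHom.mem_ker.2 toSp_tS⟩

theorem valK_zK : valK zK = tO := rfl

theorem valK_mul (a b : ↥KT) : valK (a * b) = valK a * valK b := map_mul valK a b

theorem tO_sq : tO * tO = 1 := by
  refine aut_ext fun v => Subtype.ext (funext fun i => ?_)
  rw [mul_smul, tO_smul, tO_smul, one_smul]
  split_ifs <;> simp

theorem tO_ne_one : tO ≠ 1 := by
  intro h
  have h4 : pt 4 ∉ dec oct0 := by rw [mem_dec, idx_pt 4 (by norm_num)]; decide +kernel
  have := tO_smul (eightL (pt 4)) (pt 4)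
  rw [h, one_smul, if_neg h4] at this
  simp [eightL, eight] at this

theorem comm_or (a b : ↥KT) : a * b = b * a ∨ a * b = b * a * zK := by
  obtain ⟨P, hP, m, hm, hσ, hd, ha⟩ := exists_form a
  obtain ⟨P', hP', m', hm', hσ', hd', hb⟩ := exists_form b
  have h := mono_comm hP hP' hm hm' hσ hd hσ' hd'
  rw [← ha, ← hb] at h
  split at h
  · refine Or.inr (valK_injective ?_)
    exact (valK_mul a b).trans (h.trans ((congrArg₂ (· * ·) (valK_mul b a) valK_zK).symm.trans (valK_mul (b * a) zK).symm))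
  · exact Or.inl (valK_injective ((valK_mul a b).trans (h.trans ((mul_one _).trans (valK_mul b a).symm))))

theorem zK_central : zK ∈ Subgroup.center ↥KT := by
  refine Subgroup.mem_center_iff.2 fun k => Subtype.ext (Subtype.ext ?_)
  exact Subgroup.mem_centralizer_singleton_iff.1 (k : ↥CT).2

theorem center_eq : ∀ k : ↥KT, k ∈ Subgroup.center ↥KT ↔ k = 1 ∨ k = zK := by
  intro k
  refine ⟨fun hk => ?_, ?_⟩
  · obtain ⟨P, hP, m, hm, hσ, hd, he⟩ := exists_form k
    have h := List.all_eq_true.1 (List.all_eq_true.1 sign_chk.2.1 P hP) m hm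
    simp only [Bool.or_eq_true, Bool.and_eq_true, beq_iff_eq, List.any_eq_true] at h
    rcases h with ⟨h1, h2⟩ | ⟨P', hP', m', hm', hne⟩
    · have hσ1 : toPerm P = 1 := toPerm_powP_zero (valid_trans hP) h1
      rcases h2 with rfl | rfl
      · refine Or.inl (valK_injective ?_)
        rw [map_one, he, one_eq_mono]
        congr 1
      · refine Or.inr (valK_injective ?_)
        rw [he, valK_zK, tO]
        congr 1
    · exfalso
      obtain ⟨b, hσ', hd', hb⟩ := exists_elt hP' hm'
      have h2 := mono_comm hP hP' hm hm' hσ hd hσ' hd'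
      rw [if_pos hne, ← he, ← hb, ← map_mul, ← map_mul, ← Subgroup.mem_center_iff.1 hk b] at h2
      exact tO_ne_one (left_eq_mul.1 h2)
  · rintro (rfl | rfl)
    · exact one_mem _
    · exact zK_central

theorem natCard_center : Nat.card (Subgroup.center ↥KT) = 2 := by
  have hz : zK ≠ 1 := fun h => tO_ne_one (by rw [← valK_zK, h, map_one])
  have hs : (Subgroup.center ↥KT : Set ↥KT) = {1, zK} := by
    ext k
    simp only [SetLike.mem_coe, center_eq, Set.mem_insert_iff, Set.mem_singleton_iff]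
  show Nat.card ↥((Subgroup.center ↥KT : Set ↥KT)) = 2
  rw [Nat.card_coe_set_eq, hs, Set.ncard_pair (Ne.symm hz)]

theorem natCard_KT : Nat.card ↥KT = 2 ^ 9 := by
  let S : Set (Finset GolayPt) := {d | d ∈ CS ∧ Disjoint d (dec oct0)}
  have hS : S.ncard = 32 := by
    have he : S = dec '' (↑offL.toFinset : Set ℕ) := by
      ext d
      simp only [S, Set.mem_ofPred_eq, Set.mem_image, Finset.mem_coe, List.mem_toFinset]
      refine ⟨fun h => mem_offL h.1 h.2, ?_⟩
      rintro ⟨m, hm, rfl⟩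
      exact ⟨(offL_props hm).1, (offL_props hm).2.1⟩
    rw [he, Set.InjOn.ncard_image, Set.ncard_coe_finset,
      List.toFinset_card_of_nodup (show offL.Nodup from codeList_nodup.filter _)]
    · exact sign_chk.2.2.2
    · intro a ha b hb hab
      exact dec_inj (offL_props (List.mem_toFinset.1 ha)).2.2 (offL_props (List.mem_toFinset.1 hb)).2.2 hab
  have hcard : Nat.card (↥(fixH M24 F6) × ↥S) = 2 ^ 9 := by
    rw [Nat.card_prod, natCard_fixF6, Nat.card_coe_set_eq, hS]
    norm_num
  rw [← hcard]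
  have hex : ∀ x : ↥(fixH M24 F6) × ↥S, ∃ k : ↥KT,
      valK k = mono (mem_fixH.1 x.1.2).1 x.2.2.1 := by
    intro x
    obtain ⟨g, hg, hg1⟩ := mem_kernel (mem_fixH.1 x.1.2).1 x.2.2.1 x.1.2 x.2.2.2
    exact ⟨⟨g, MonoidHom.mem_ker.2 hg1⟩, hg⟩
  choose f hf using hex
  refine (Nat.card_eq_of_bijective f ⟨fun x y h => ?_, fun k => ?_⟩).symm
  · have := congrArg valK h
    rw [hf, hf] at this
    obtain ⟨h1, h2⟩ := mono_inj this
    exact Prod.ext (Subtype.ext h1) (Subtype.ext h2)
  · obtain ⟨σ, d, hσ, hd, hσF, hdis, he⟩ := kernel_form (MonoidHom.mem_ker.1 k.2)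
    exact ⟨⟨⟨σ, hσF⟩, ⟨d, hd, hdis⟩⟩, valK_injective ((hf _).trans he.symm)⟩

theorem exists_noncomm : ∃ a b : ↥KT, ⁅a, b⁆ ≠ 1 := by
  obtain ⟨P, hP, P', hP', m, hm, m', hm', hne⟩ : ∃ P ∈ trans6, ∃ P' ∈ trans6, ∃ m ∈ offL, ∃ m' ∈ offL,
      (eps P m' != eps P' m) = true := by
    simpa only [List.any_eq_true] using sign_chk.2.2.1
  obtain ⟨a, hσ, hd, ha⟩ := exists_elt hP hm
  obtain ⟨b, hσ', hd', hb⟩ := exists_elt hP' hm'
  refine ⟨a, b, fun h => ?_⟩
  have h2 := mono_comm hP hP' hm hm' hσ hd hσ' hd'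
  rw [if_pos hne, ← ha, ← hb, ← map_mul, ← map_mul, commutatorElement_eq_one_iff_mul_comm.1 h] at h2
  exact tO_ne_one (left_eq_mul.1 h2)

theorem isExtraspecial_KT : Cfsg.IsExtraspecial 2 ↥KT := by
  haveI : Fact (Nat.Prime 2) := ⟨Nat.prime_two⟩
  refine CfsgLib.Extraspecial.isExtraspecial_of (IsPGroup.of_card natCard_KT) natCard_center
    (fun a b => ?_) (fun a => ?_) ?_
  · rcases comm_or a b with h | h
    · rw [commutatorElement_eq_one_iff_mul_comm.2 h]; exact one_mem _
    · rw [show ⁅a, b⁆ = b * a * zK * (b * a)⁻¹ by rw [commutatorElement_def, h, mul_inv_rev]; group,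
        Subgroup.mem_center_iff.1 zK_central (b * a), mul_inv_cancel_right]
      exact zK_central
  · obtain ⟨P, hP, m, hm, hσ, hd, he⟩ := exists_form a
    have h := mono_sq hP hm hσ hd
    rw [← he] at h
    rw [pow_two, center_eq]
    split at h
    · exact Or.inr (valK_injective ((valK_mul a a).trans (h.trans valK_zK.symm)))
    · exact Or.inl (valK_injective ((valK_mul a a).trans (h.trans (map_one valK).symm)))
  · exact exists_noncomm

end CfsgLib.Leech.Octad
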