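import Cfsg.Agent.Lib.Leech.Sub.StabCols

/-!
Data for the centralizer of the involution negating the coordinates off an octad.
-/

set_option autoImplicit false
set_option maxRecDepth 20000

namespace CfsgLib.Leech.Octad

/-- the fixed vector -/
def uL : List ℤ := [0, 0, 0, 0, 0, 0, 0, 0, 0, 0, 0, 0, 0, 0, 4, 0, 0, 4, 0, 0, 0, 0, 0, 0]

/-- lifts of a symplectic basis: the first three are paired with the last three -/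
def bvL : List (List ℤ) := [
   [-4, -4, 0, 0, 0, 0, 0, 0, 0, 0, 0, 0, 0, 0, 0, 0, 0, 0, 0, 0, 0, 0, 0, 0],
   [0, 0, 0, -4, 0, -4, 0, 0, 0, 0, 0, 0, 0, 0, 0, 0, 0, 0, 0, 0, 0, 0, 0, 0],
   [0, 0, 0, 0, 0, 0, 0, 0, 0, 0, 0, 0, 0, 0, -4, 0, 0, 4, 0, 0, 0, 0, 0, 0],
   [-4, 0, -4, 0, 0, 0, 0, 0, 0, 0, 0, 0, 0, 0, 0, 0, 0, 0, 0, 0, 0, 0, 0, 0],
   [0, 0, 0, -4, 0, 0, 0, 0, 0, 0, 0, 0, 0, 0, 0, 0, 0, 0, 0, 0, 0, 0, 0, -4],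
   [-2, 2, 2, 2, 0, -2, 0, 0, 0, 0, 0, 0, 0, 0, -2, 0, 0, 2, 0, 0, 0, 0, 0, -2]]

/-- a basis of the lattice on the octad: seven orthogonal to the fixed vector and one more -/
def zL : List (List ℤ) := [
   [0, 0, 0, 0, 0, 0, 0, 0, 0, 0, 0, 0, 0, 0, 4, 0, 0, -4, 0, 0, 0, 0, 0, 0],
   [0, 0, 0, 0, 0, 4, 0, 0, 0, 0, 0, 0, 0, 0, 0, 0, 0, 0, 0, 0, 0, 0, 0, -4],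
   [0, 0, 0, 0, 0, 4, 0, 0, 0, 0, 0, 0, 0, 0, 0, 0, 0, 0, 0, 0, 0, 0, 0, 4],
   [0, 0, 0, 4, 0, -4, 0, 0, 0, 0, 0, 0, 0, 0, 0, 0, 0, 0, 0, 0, 0, 0, 0, 0],
   [0, 0, 4, -4, 0, 0, 0, 0, 0, 0, 0, 0, 0, 0, 0, 0, 0, 0, 0, 0, 0, 0, 0, 0],
   [0, 4, -4, 0, 0, 0, 0, 0, 0, 0, 0, 0, 0, 0, 0, 0, 0, 0, 0, 0, 0, 0, 0, 0],
   [2, -2, -2, -2, 0, -2, 0, 0, 0, 0, 0, 0, 0, 0, -2, 0, 0, 2, 0, 0, 0, 0, 0, -2],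
   [-4, 0, 0, 0, 0, 0, 0, 0, 0, 0, 0, 0, 0, 0, 0, 0, 0, 4, 0, 0, 0, 0, 0, 0]]

/-- the dual basis -/
def zdL : List (List ℤ) := [
   [4, 0, 0, 0, 0, 0, 0, 0, 0, 0, 0, 0, 0, 0, 8, 0, 0, 4, 0, 0, 0, 0, 0, 0],
   [6, 2, 2, 2, 0, 2, 0, 0, 0, 0, 0, 0, 0, 0, 6, 0, 0, 6, 0, 0, 0, 0, 0, -2],
   [10, 2, 2, 2, 0, 2, 0, 0, 0, 0, 0, 0, 0, 0, 10, 0, 0, 10, 0, 0, 0, 0, 0, 2],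
   [12, 4, 4, 4, 0, 0, 0, 0, 0, 0, 0, 0, 0, 0, 12, 0, 0, 12, 0, 0, 0, 0, 0, 0],
   [8, 4, 4, 0, 0, 0, 0, 0, 0, 0, 0, 0, 0, 0, 8, 0, 0, 8, 0, 0, 0, 0, 0, 0],
   [4, 4, 0, 0, 0, 0, 0, 0, 0, 0, 0, 0, 0, 0, 4, 0, 0, 4, 0, 0, 0, 0, 0, 0],
   [8, 0, 0, 0, 0, 0, 0, 0, 0, 0, 0, 0, 0, 0, 8, 0, 0, 8, 0, 0, 0, 0, 0, 0],
   [0, 0, 0, 0, 0, 0, 0, 0, 0, 0, 0, 0, 0, 0, 4, 0, 0, 4, 0, 0, 0, 0, 0, 0]]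

/-- reductions of the first seven: parities, multiple of the fixed vector, half -/
def redL : List (List ℕ × ℕ × List ℤ) := [
   ([0, 0, 1, 0, 0, 0], 0, [1, 0, 0, 0, 0, 0, 0, 0]),
   ([0, 1, 0, 0, 1, 0], 0, [0, 1, 1, 1, 0, 0, 0, 0]),
   ([0, 1, 1, 0, 1, 0], 1, [-1, -1, -1, -2, -2, -1, -2, -1]),
   ([0, 1, 1, 0, 0, 0], 1, [-1, -1, -2, -2, -2, -1, -2, -1]),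
   ([1, 1, 0, 0, 1, 0], 1, [-1, 0, 0, 0, 0, 0, -1, -1]),
   ([1, 0, 0, 1, 0, 0], 0, [1, 2, 3, 4, 3, 2, 2, 0]),
   ([0, 1, 0, 0, 1, 1], 1, [-1, -1, -1, -2, -2, -1, -1, -1])]

/-- centres of transvections -/
def centreL : List (List ℕ) := [
   [1, 1, 0, 1, 0, 1],
   [1, 1, 1, 1, 0, 0],
   [0, 1, 1, 1, 1, 1],
   [1, 0, 1, 1, 0, 0],
   [0, 0, 1, 0, 1, 0],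
   [1, 0, 1, 0, 1, 1],
   [1, 1, 0, 0, 0, 0]]

/-- elements inducing these transvections, by the images of the basis -/
def liftL : List (List (List ℤ)) := [[
   [-3, 1, 1, 1, 1, 1, -1, -1, 1, 1, -1, 1, 1, 1, -1, -1, -1, -1, 1, 1, 1, 1, -1, 1],
   [1, -1, -1, -1, -1, 1, -1, -1, 1, 1, -1, 1, 1, 1, -3, -1, -1, -1, 1, -1, 1, -1, 1, 1],
   [2, -2, 0, 0, 0, 0, 0, 0, 2, -2, 0, 0, 0, 0, -2, 0, 0, 0, 0, -2, 0, 0, 2, 2],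
   [1, 1, -1, 1, 1, -1, 1, 1, 1, -1, 1, -1, -1, -1, 1, 1, 1, -1, -3, -1, -1, -1, -1, -1],
   [-3, 1, 1, -1, 1, 1, -1, -1, 1, -1, -1, 1, -1, -1, 1, -1, 1, -1, -1, 1, -1, 1, -1, 1],
   [1, -1, -1, -1, -1, 1, -1, -1, 1, -1, -1, -1, 1, -1, -1, 1, -1, -1, 1, -3, -1, -1, 1, -1],
   [-3, 1, 1, 1, 1, -1, -1, -1, 1, 1, -1, 1, 1, -1, 1, -1, -1, 1, -1, 1, -1, -1, -1, -1],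
   [2, 0, 0, 0, -2, 0, 0, 0, 2, 0, 0, 0, 0, 0, -2, -2, 2, 0, 0, 0, 0, -2, 2, 0],
   [-1, -1, 1, -1, -1, 1, 1, -1, -1, 1, -1, -1, 1, -1, 1, -1, 1, 3, 1, -1, 1, 1, 1, 1],
   [0, 0, 0, 2, 0, 0, 2, 0, 0, 0, 0, -2, 2, 0, -2, 0, -2, 0, 0, 0, 0, -2, 2, 0],
   [-1, 1, -1, -1, -3, 1, 1, 1, -1, 1, -1, 1, 1, -1, 1, -1, -1, 1, 1, 1, -1, -1, -1, -1],
   [0, 0, 2, -2, 0, 2, 0, 2, -2, -2, -2, 0, 0, 0, 0, 0, 2, 0, 2, 0, 0, 2, 2, 2],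
   [0, 0, 0, 0, 0, 0, 0, 0, 0, -4, 0, 0, 0, 0, 0, 0, 0, 4, 4, 0, 0, 4, 4, 4],
   [1, 1, 1, 1, 1, -1, 1, 1, 1, 1, -1, -3, 3, -1, 1, 3, -5, -1, 3, -3, 1, 1, 1, -3],
   [-1, -1, -1, -1, -1, 1, -1, -1, -1, 3, -3, -1, 1, -3, 3, 1, -3, -3, 1, -1, -1, -1, -1, -5],
   [0, 0, 0, 0, 2, 0, -2, -4, -2, 2, 0, 0, -2, 0, 0, -4, 2, 0, 0, 0, 2, -2, 0, 0],
   [1, 1, 1, 1, 3, -1, -3, -1, 1, -3, 1, 1, -3, 1, -3, 3, -1, -1, 1, -3, 3, 3, 1, 1],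
   [1, 1, 1, 1, -1, -1, -3, 1, -3, -3, -1, 3, 1, -1, 1, -3, 3, -1, -1, 3, -1, -1, 3, -3],
   [-1, -1, -1, -1, 1, 1, 1, 1, -9, 5, 3, 1, 3, 1, -1, 1, -3, -3, 5, 11, -1, 3, -3, -1],
   [2, 2, 2, 2, 2, -2, 2, -4, 2, 0, 2, -2, -4, 2, 2, 0, 0, 2, 4, -2, 2, 4, 0, -2],
   [-3, -3, -3, -3, 1, 3, 1, -3, -1, 1, -1, -3, -1, -3, -3, -3, 1, -5, 1, -1, -1, -1, 1, 1],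
   [-1, -1, -1, -1, -3, 1, -1, 1, 1, 1, -3, 1, 1, -1, 3, 3, -3, 5, 1, -1, -1, 1, -1, 3],
   [3, 3, 3, 3, 7, -3, 1, -1, -1, -3, 5, -3, -3, -5, 3, 1, 1, 5, -5, -1, -3, -3, 1, -1],
   [0, 0, 0, 0, 0, 0, 4, 2, 2, -4, 2, -2, 0, 0, -4, 0, 2, -4, 0, 0, -2, 2, 2, 0]],
[
   [-1, 1, 1, 1, -1, 1, 1, 1, -1, 1, 1, -1, 1, -1, -1, 1, 1, -1, 1, 1, 1, 1, 1, 3],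
   [-2, 0, 0, 0, 0, 0, 0, 0, 0, 0, 0, 0, 2, 0, -2, 0, 2, -2, 2, 0, 0, 0, 2, -2],
   [-2, -2, 0, 0, 0, 0, 0, 0, 2, -2, 0, 0, 0, 0, -2, 0, 0, 0, 0, -2, 0, 0, 2, -2],
   [2, 0, -2, 0, 0, 0, 0, 0, 2, -2, 0, 0, 0, 0, 0, 0, -2, 0, -2, 0, -2, 0, -2, 0],
   [-1, 1, 1, -1, -1, 1, 1, -1, 1, 1, 1, -1, 1, -1, 1, 1, -1, -1, -1, -1, 1, 1, -1, 3],
   [0, 0, 0, 0, 0, 0, 0, 0, 2, 0, 0, 2, 0, 0, 0, 0, 0, -2, 2, -2, -2, 0, 2, -2],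
   [1, 1, 1, 1, -1, -1, 1, -1, 1, 1, 1, -1, 1, -1, 1, 1, 1, 1, 1, 1, -1, 1, -1, 3],
   [0, 0, 0, 0, 0, 0, -2, -2, 0, -2, 0, 0, 2, 0, -2, 0, 2, 0, 0, -2, 0, 0, 0, -2],
   [-2, 0, 2, 0, 0, 0, 0, 0, -2, 0, 0, 0, 0, 0, 2, 0, 0, 2, 2, -2, 0, -2, 0, 0],
   [0, 0, 0, 2, 0, 0, 0, 0, 0, -2, 0, 0, -2, 2, -2, 0, 2, 0, 2, 0, -2, 0, 0, 0],
   [0, 2, 0, 0, 0, 0, 0, -2, -2, 2, 0, 0, 0, 0, 2, -2, 2, 0, 0, 0, -2, 0, 0, 0],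
   [-2, 0, 2, -2, 0, 2, 0, -2, -2, 0, -2, 0, -2, 0, 0, 0, -2, 0, 0, -2, 2, 0, 2, 0],
   [-4, 0, 0, 0, 0, 0, 0, 0, 0, 0, 0, 0, -4, 0, 0, 0, 0, 4, 0, -4, 4, 0, 4, 0],
   [4, 0, 0, 0, 0, 0, 0, 4, 0, 0, 0, 0, -4, 0, 0, 0, 0, 0, 4, 0, -4, 0, 4, 0],
   [4, 0, 0, 0, 0, 0, 0, 0, 0, 4, 0, 0, 0, 0, 4, 0, 0, -4, 4, 0, -4, 0, 0, 0],
   [0, 0, 0, 0, 0, 0, 0, 0, 0, 0, 0, 0, 4, 0, 0, 0, 0, 0, 4, 0, 4, 0, -4, 0],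
   [0, 0, 0, 0, 0, 0, 0, 4, 4, 0, 0, 0, 0, 0, -4, 0, -4, 0, 0, 0, 4, 0, 4, 0],
   [4, 0, 0, 0, 0, 0, 0, -8, 0, 0, 0, 0, 0, 0, 0, 0, 0, 0, 0, 0, 4, 0, 0, 0],
   [0, 0, 0, 0, 0, 0, 0, 0, -8, 8, 0, 0, -8, 0, 0, 0, 4, -4, 0, 8, 4, 0, -4, 0],
   [4, 0, 0, 0, 0, 0, 0, 8, 0, 0, 0, 0, 0, 0, 0, 0, 0, 4, 0, -4, 4, 0, 0, 0],
   [-4, 0, 0, 0, 0, 0, 0, 0, 0, 0, 0, 0, 0, 0, 0, 0, 0, -8, 4, -4, 0, 0, -4, 0],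
   [-4, 0, 0, 0, 0, 0, 0, 0, 0, 4, 0, 0, 0, 0, 4, 0, 0, 4, 0, 0, -4, 0, 4, 0],
   [4, 0, 0, 0, 0, 0, 0, 0, 8, -4, 0, 0, -4, 0, 0, 0, -4, 8, 0, 0, 0, 0, -8, 0],
   [0, 0, 0, 0, 0, 0, 0, 0, 0, -4, 0, 0, -4, 0, -4, 0, 0, -4, -4, -4, 0, 0, 0, 0]],
[
   [-3, 1, 1, 1, 1, 1, 1, 1, -1, -1, 1, 1, 1, -1, -1, -1, 1, -1, -1, 1, 1, 1, -1, 1],
   [1, -1, 1, -1, -1, -1, 1, -1, -1, -1, 1, 1, 1, -1, -3, -1, 1, -1, 1, 1, -1, 1, -1, 1],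
   [2, -2, 0, 0, -2, 0, 0, 0, 0, 0, -2, 0, 0, 0, -2, 0, 0, 0, 2, 0, 0, 2, 0, 2],
   [0, 0, -2, 0, 0, 0, 0, 0, 2, 2, -2, -2, 0, 2, 0, 0, 0, 0, 0, 0, 0, 0, 2, -2],
   [-3, 1, 1, -1, 1, 1, 1, 1, 1, -1, -1, -1, 1, 1, 1, 1, -1, -1, -1, 1, 1, 1, -1, 1],
   [1, -1, 1, -1, -3, -1, 1, -1, -1, -1, -1, -1, 1, -1, -1, -1, -1, -1, 1, -1, -1, 1, 1, -1],
   [-2, 2, 0, 2, 0, 0, 2, 0, 0, 0, 0, 0, 2, 0, 2, 0, 0, 0, -2, 2, 0, 0, 0, 0],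
   [2, 0, 0, 0, -2, 0, 0, 0, 0, 0, 0, 0, 0, 2, -2, 0, 0, 0, 2, 2, -2, 0, -2, 0],
   [0, 0, 2, 0, 0, 0, 0, 0, -2, -2, 0, 0, -2, 0, 2, 0, 0, 2, 0, 0, -2, 0, 0, 2],
   [0, 0, 0, 2, -2, 0, 0, 0, -2, 2, 0, 2, 0, 0, -2, 0, 0, 0, 0, 0, -2, 0, 2, 0],
   [-1, 1, 1, -1, -1, -1, 1, -1, -1, -1, 1, 1, 1, 1, 1, 1, 1, 1, -1, -1, -1, -3, -1, -1],
   [0, 0, 2, -2, 0, 2, -2, 0, 0, -2, -2, 2, -2, 0, 0, 0, -2, 0, 0, -2, 0, 0, -2, 2],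
   [0, 0, 0, 0, -2, 0, -2, 2, -2, -2, -2, 2, -2, -2, 0, 2, -2, 4, 2, -2, 2, 2, -2, 4],
   [1, 1, -1, 1, -3, 1, 1, -1, -5, 1, -1, 1, -1, -3, 1, -3, 1, -1, -1, -3, 1, 1, 3, -3],
   [-1, -1, 1, -1, -1, -1, 3, -3, -3, -1, 1, -1, 1, -1, 3, -1, -1, -3, -3, -1, -1, -1, 1, -5],
   [0, 0, 0, 0, 2, 0, 2, 0, 2, -2, 4, 0, -2, 0, 0, 0, -2, 0, 0, 4, -2, 2, 0, 0],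
   [1, 1, -1, 1, 1, 1, -1, -1, 1, -1, -1, -1, -1, -3, -3, -1, -1, -1, 3, -1, 5, 5, 1, 1],
   [1, 1, -1, 1, -1, 1, -3, -1, 3, -3, -1, 3, 1, 1, 1, 3, -3, -1, -1, 3, -1, -1, -3, -3],
   [-1, -1, 1, -1, 5, -1, -3, 3, -3, 1, 7, 5, -1, -5, -1, 3, -1, -3, -7, -1, 3, -9, -1, -1],
   [2, 2, -2, 2, 2, 2, 2, 4, -2, 0, 2, -2, -4, -2, 2, 0, 0, 2, 4, -2, 2, 4, 0, -2],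
   [-3, -3, 3, -3, -1, -3, 3, 1, -1, -1, 1, -1, -3, 1, -3, 1, -3, -5, -1, 1, -3, 1, 1, 1],
   [-1, -1, 1, -1, -1, -1, 1, -3, -3, -1, -1, -1, 3, -1, 3, -1, 1, 5, -1, -3, 1, -1, -1, 3],
   [3, 3, -3, 3, -1, 3, 1, 1, 5, 5, -3, -3, -3, 1, 3, 3, -5, 5, -1, 3, 1, 1, 7, -1],
   [0, 0, 0, 0, -2, 0, -2, 4, 0, 2, -4, 0, -2, 2, -4, 2, 0, -4, 2, -2, 0, 0, 0, 0]],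
[
   [-3, -1, -1, 1, -1, 1, 1, 1, 1, 1, 1, 1, -1, -1, -1, 1, 1, -1, -1, 1, 1, 1, 1, 1],
   [2, 0, 0, 0, 0, 0, 0, 0, 0, 0, 0, 0, -2, 0, -2, 0, 2, -2, -2, 0, 0, 0, 2, 2],
   [2, 0, 2, 0, 2, 0, 0, 0, 0, 0, 0, 0, -2, 0, -2, -2, 0, 0, 0, -2, 0, 0, 0, 2],
   [0, 2, 0, 0, 2, 0, 0, -2, 0, 0, 0, 0, 2, 0, 0, 0, 0, 0, 2, -2, 0, 0, -2, -2],
   [-3, -1, -1, -1, 1, 1, 1, 1, 1, 1, -1, 1, 1, -1, 1, -1, 1, -1, 1, 1, 1, 1, -1, 1],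
   [2, 0, 0, 0, 2, 0, 0, -2, 0, 0, 0, 0, -2, 2, 0, -2, 0, -2, 0, 0, 0, 0, 2, 0],
   [-3, -1, -1, 1, 1, -1, 1, -1, 1, 1, -1, 1, 1, -1, 1, 1, 1, 1, -1, 1, 1, 1, 1, -1],
   [2, 0, 0, 0, 0, 0, 0, 0, 0, -2, -2, 0, 0, 0, -2, -2, 2, 0, -2, -2, 0, 0, 0, 0],
   [0, -2, 0, 0, -2, 0, 0, 0, 0, 0, 0, 0, 0, 0, 2, -2, 0, 2, 0, 0, -2, 0, 2, 2],
   [0, 0, 0, 2, 0, 0, 0, -2, -2, 0, 0, 0, 0, 0, -2, 0, -2, 0, -2, -2, 0, 0, 2, 0],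
   [0, 0, -2, 0, -2, 0, -2, -2, 0, 0, -2, 0, 0, 0, 2, 0, 0, 0, -2, 2, 0, 0, 0, 0],
   [0, -2, 0, -2, -2, 2, 0, 2, 0, 0, -2, 0, -2, 0, 0, -2, -2, 0, 2, 0, 0, -2, 0, 2],
   [0, 0, 0, 0, 0, 0, 0, 4, 0, 0, 0, 0, -4, 0, 0, -4, -4, 4, 0, 0, 0, 0, 0, 4],
   [0, 0, 0, 0, 0, 0, 0, -4, 0, 0, 4, 0, -4, 0, 0, 0, -4, 0, 0, 0, 0, 0, 4, -4],
   [0, 0, 0, 0, 0, 0, 0, -4, 0, 0, 0, 0, 0, 0, 4, 0, 0, -4, 0, 4, 0, 0, 4, -4],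
   [0, 0, 0, 0, 0, 0, 0, 4, 0, 0, 0, 0, 4, 0, 0, 0, 4, 0, 0, 0, 0, 0, 4, 0],
   [0, 0, 0, 0, 4, 0, 0, 4, 0, 0, 4, 0, -4, 0, -4, 0, 0, 0, 4, 0, 0, 0, 0, 0],
   [0, 0, 0, 0, 0, 0, 0, 4, 0, 0, -8, 0, 0, 0, 0, 0, 0, 0, 0, 0, 0, 0, 0, -4],
   [0, 0, 0, 0, -8, 0, 0, 4, 0, 0, 0, 0, 4, 0, 0, 8, -8, -4, -4, 8, 0, 0, 0, 0],
   [0, 0, 0, 0, 0, 0, 0, 4, 0, 0, 8, 0, 0, 0, 0, -4, 0, 4, 0, 0, 0, 0, 0, -4],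
   [0, 0, 0, 0, 0, 0, 0, 0, 0, 0, 0, 0, 4, 0, 0, -4, 0, -8, 0, 0, 0, 0, 4, 4],
   [0, 0, 0, 0, 0, 0, 0, -4, 0, 0, 0, 0, -4, 0, 4, 0, 0, 4, 0, 4, 0, 0, 0, 4],
   [0, 0, 0, 0, 8, 0, 0, 0, 0, 0, 0, 0, 8, 0, 0, 0, -4, 8, 4, -4, 0, 0, 0, -4],
   [0, 0, 0, 0, 0, 0, 0, 0, 0, 0, 0, 0, 0, 0, -4, -4, -4, -4, 0, -4, 0, 0, -4, 0]],
[
   [-3, 1, 1, 1, 1, 1, 1, -1, 1, 1, 1, 1, -1, 1, -1, -1, 1, -1, -1, -1, -1, 1, 1, 1],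
   [2, 0, 0, 2, 0, 0, 0, 0, 0, 0, 0, 2, 0, 0, -2, -2, 0, -2, 0, -2, 0, 0, 2, 0],
   [2, -2, 0, 2, 0, 0, -2, 0, 0, 0, 0, 0, 2, 0, -2, 0, 0, 0, 2, -2, 0, 0, 0, 0],
   [0, 0, -2, -2, 0, 0, -2, 2, 0, 0, 0, 0, 2, 0, 0, 2, 0, 0, 0, 2, 0, 0, -2, 0],
   [-3, 1, 1, 1, 1, 1, -1, -1, 1, 1, 1, 1, -1, 1, 1, 1, 1, -1, 1, 1, -1, -1, -1, -1],
   [2, 0, 0, 0, 0, 0, -2, 2, 0, -2, 0, 0, 0, 0, 0, 0, 0, -2, 2, -2, 0, 0, 2, 0],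
   [-3, 1, 1, -1, 1, -1, -1, 1, 1, 1, 1, 1, -1, 1, 1, -1, 1, 1, -1, 1, -1, -1, 1, 1],
   [2, 0, 0, 0, 0, 0, 0, 0, 0, 0, 0, 2, 2, -2, -2, -2, 0, 0, 2, 0, 0, -2, 0, 0],
   [0, 0, 2, 2, 0, 0, 2, 0, 0, 0, 0, 0, 0, 0, 2, 0, 0, 2, 2, 0, 2, 0, 2, 0],
   [0, 0, 0, 0, 0, 0, 0, 2, -2, 0, 0, -2, 2, 0, -2, -2, 0, 0, 0, 0, 0, 0, 2, 2],
   [0, 2, 0, 0, -2, 0, 2, 2, 0, 0, 0, 0, -2, 0, 2, -2, 0, 0, 0, 0, 0, -2, 0, 0],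
   [0, 0, 2, 2, 0, 2, 2, -2, 0, 0, -2, -2, 0, 0, 0, 2, 0, 0, 2, -2, 0, -2, 0, -2],
   [0, 0, 0, 4, 0, 0, 0, -4, 0, 0, 0, -4, 0, 0, 0, 0, 0, 4, 4, -4, 0, 0, 0, 0],
   [0, 0, 0, -4, 0, 0, 0, 4, 0, 0, 0, -4, 0, 0, 0, 0, 0, 0, 0, -4, 0, 4, 4, 0],
   [0, 0, 0, -4, 0, 0, 0, 4, 0, 0, 0, 0, -4, 0, 4, 0, 0, -4, 0, 0, 0, 0, 4, 0],
   [0, 0, 0, 0, 0, 0, 0, -4, 0, 0, 0, 4, 0, 0, 0, 0, 0, 0, 0, 4, 0, 0, 4, 0],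
   [0, 0, 0, 0, 0, 0, -4, -4, 0, 0, 0, 0, 0, 0, -4, 4, 0, 0, 0, -4, 0, 4, 0, 0],
   [0, 0, 0, -4, 0, 0, 0, -4, 0, 0, 0, 0, 0, 0, 0, 0, 0, 0, 0, 0, 0, -8, 0, 0],
   [0, 0, 0, 0, 0, 0, 8, -4, 0, 0, 0, -8, -8, 0, 0, -4, 0, -4, -8, 4, 0, 0, 0, 0],
   [0, 0, 0, -4, 0, 0, 0, -4, 0, 0, 0, 0, 0, 0, 0, 0, 0, 4, 4, 0, 0, 8, 0, 0],
   [0, 0, 0, 4, 0, 0, 0, 0, 0, 0, 0, 0, 0, 0, 0, 0, 0, -8, 4, 4, 0, 0, 4, 0],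
   [0, 0, 0, 4, 0, 0, 0, 4, 0, 0, 0, 0, -4, 0, 4, 0, 0, 4, 0, -4, 0, 0, 0, 0],
   [0, 0, 0, -4, 0, 0, -8, 0, 0, 0, 0, -4, 4, 0, 0, 4, 0, 8, 0, 8, 0, 0, 0, 0],
   [0, 0, 0, 0, 0, 0, 0, 0, 0, 0, 0, -4, 4, 0, -4, 0, 0, -4, 4, 0, 0, 0, -4, 0]],
[
   [-2, 0, 2, 0, 0, 0, 0, 0, 0, 2, 0, 2, 0, 0, 0, 0, 2, -2, 0, 2, 0, 0, 0, 2],
   [1, 1, -1, 1, -1, 1, 1, 1, -1, 1, 1, 1, 1, -1, -3, 1, 1, -1, 1, 1, -1, -1, -1, 1],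
   [1, -1, -1, 1, -1, 1, 1, 1, -1, 1, -1, -1, 1, -1, -3, -1, -1, 1, 1, -1, 1, -1, -1, 1],
   [1, -1, -1, -1, 1, -1, 1, 1, 1, -1, -1, -3, 1, 1, 1, -1, -1, -1, -1, -1, 1, 1, 1, -1],
   [-3, 1, 1, -1, 1, 1, 1, -1, 1, 1, -1, -1, -1, 1, 1, -1, 1, -1, 1, 1, 1, -1, 1, 1],
   [1, 1, -1, 1, -3, 1, 1, 1, -1, 1, -1, -1, 1, -1, -1, 1, -1, -1, 1, -1, -1, -1, 1, -1],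
   [-2, 0, 2, 0, 0, -2, 2, 0, 0, 0, 0, 0, 0, 0, 2, 0, 2, 0, 0, 2, 0, 0, 2, 0],
   [2, 0, 0, 0, 0, 0, 2, 0, -2, 0, 2, -2, 0, 0, -2, 0, 0, 0, 2, 0, 0, 0, -2, 0],
   [-1, 1, 1, 1, -1, 1, 1, -1, -1, 1, 1, 1, -1, 1, 1, 1, -1, 3, -1, -1, -1, -1, -1, 1],
   [1, -1, 1, 1, -1, -1, 1, 1, -3, -1, 1, 1, 1, -1, -1, -1, -1, -1, -1, -1, -1, 1, 1, 1],
   [0, 2, 0, 0, 0, 0, 0, -2, -2, -2, 0, 0, 0, 0, 2, 2, 2, 0, 0, 0, -2, 0, 0, 0],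
   [-1, 1, 1, -1, 1, 3, -1, -1, -1, 1, -1, 1, -3, -1, -1, 1, -1, 1, 1, -3, 1, -1, -1, 1],
   [0, 0, 0, 0, -2, 0, -2, -2, -2, 2, -2, 2, -2, -2, 0, -2, -2, 4, 2, -2, 2, -2, -2, 4],
   [1, -1, 1, -1, -5, -1, -1, 3, -3, 1, -3, 3, 1, -1, 1, 1, -1, -1, -3, -1, -1, 1, 1, -3],
   [-1, 1, -1, 1, -3, 1, 1, 1, -1, -1, -1, 1, -1, 1, 3, 3, 1, -3, -1, 1, -3, -1, 3, -5],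
   [0, 0, 0, 0, 2, 0, 2, 0, 2, 2, 4, 0, -2, 0, 0, 0, -2, 0, 0, 4, -2, -2, 0, 0],
   [1, -1, 1, -1, -1, -1, -3, 3, 3, 3, -3, 1, 1, -1, -3, -1, -3, -1, 1, 1, 3, -3, -1, 1],
   [1, -1, 1, -1, 3, -1, 1, -3, -1, -1, 3, -1, -3, -3, 1, 1, 1, -1, 3, -1, 3, -3, 1, -3],
   [-1, 1, -1, 1, 1, 1, -7, -7, 1, -5, 3, 9, -5, -1, -1, 1, 3, -3, -3, 3, -1, 5, 3, -1],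
   [2, -2, 2, -2, -2, -2, -2, 0, 2, 4, -2, 2, 0, 2, 2, -4, -4, 2, 0, 2, -2, 0, -4, -2],
   [-3, 3, -3, 3, -1, 3, 3, -1, -1, 1, 1, -1, -3, 1, -3, -1, -3, -5, -1, 1, -3, -1, 1, 1],
   [-1, 1, -1, 1, -3, 1, -1, 1, -1, -1, -3, 1, 1, 1, 3, 3, 3, 5, 1, -1, -1, -1, 1, 3],
   [3, -3, 3, -3, 1, -3, 3, 1, 3, -3, -1, -5, -1, -1, 3, -5, -7, 5, -3, 1, 3, 1, 5, -1],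
   [0, 0, 0, 0, 0, 0, 0, -2, -2, 0, -2, -2, 0, 0, -4, -4, -2, -4, 0, -4, 2, 2, -2, 0]],
[
   [-3, 1, -1, 1, 1, 1, 1, 1, 1, 1, -1, -1, 1, 1, -1, -1, 1, -1, -1, 1, 1, 1, 1, -1],
   [2, 0, -2, 0, 2, 0, 0, 0, 0, 2, -2, 0, 0, 0, -2, 0, 0, -2, 0, 0, 0, 0, 2, 0],
   [2, -2, -2, 0, 0, 0, 0, 0, 0, 0, -2, 2, 0, -2, -2, 0, 0, 0, 0, -2, 0, 0, 0, 0],
   [0, 0, 2, 0, 0, 0, 0, 0, -2, -2, 2, 2, 0, -2, 0, 0, 0, 0, 0, 0, 0, 0, -2, 2],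
   [-3, 1, -1, -1, 1, 1, -1, 1, 1, -1, 1, -1, 1, -1, 1, -1, 1, -1, -1, -1, 1, 1, -1, -1],
   [2, 0, 0, 0, 0, 0, 0, 0, -2, 0, -2, 0, 0, -2, 0, 0, -2, -2, 0, -2, 0, 0, 2, 0],
   [-3, 1, 1, 1, 1, -1, -1, 1, -1, 1, 1, -1, 1, -1, 1, -1, 1, 1, -1, 1, 1, 1, 1, -1],
   [2, 0, 0, 0, 2, 0, -2, 0, 0, 2, 0, 2, 0, 0, -2, 0, 0, 0, 0, -2, 0, -2, 0, 0],
   [0, 0, -2, 0, 0, 0, 0, -2, 0, 0, 0, 0, 0, 2, 2, 0, 0, 2, 0, -2, 0, 0, 2, -2],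
   [0, 0, 0, 2, -2, 0, 0, 0, -2, 2, 0, 2, 0, 0, -2, 0, 0, 0, 0, 0, -2, 0, 2, 0],
   [0, 2, 0, 0, 0, 0, -2, 0, -2, 2, 0, -2, -2, 2, 2, 0, 0, 0, 0, 0, 0, 0, 0, 0],
   [0, 0, -2, -2, -2, 2, -2, 0, 2, -2, -2, 0, 0, 2, 0, 0, 0, 0, 2, -2, 0, 0, 0, -2],
   [0, 0, -4, 0, -4, 0, 0, 0, 4, 0, -4, 0, 0, 0, 0, 0, 0, 4, 0, -4, 0, 0, 0, 0],
   [0, 0, 4, 0, -4, 0, 4, 0, -4, 0, -4, 0, 0, 0, 0, 0, 0, 0, 0, 0, 0, 0, 4, 0],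
   [0, 0, 4, 0, 0, 0, 0, 0, -4, 0, 0, -4, 0, 0, 4, 0, 0, -4, 0, 0, 0, 0, 4, 0],
   [0, 0, 0, 0, 4, 0, 0, 0, 4, 0, 4, 0, 0, 0, 0, 0, 0, 0, 0, 0, 0, 0, 4, 0],
   [0, 0, 0, 0, 0, 0, 4, 0, 4, -4, -4, 0, 0, -4, -4, 0, 0, 0, 0, 0, 0, 0, 0, 0],
   [0, 0, 4, 0, 0, 0, -8, 0, 4, 0, 0, 0, 0, 0, 0, 0, 0, 0, 0, 0, 0, 0, 0, 0],
   [0, 0, 0, 0, -8, 0, 0, 0, 4, 4, 4, -8, 0, 8, 0, 0, 0, -4, 0, 8, 0, 0, 0, 0],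
   [0, 0, 4, 0, 0, 0, 8, 0, 4, 0, 0, 0, 0, 0, 0, 0, 0, 4, 0, -4, 0, 0, 0, 0],
   [0, 0, -4, 0, 0, 0, 0, 0, 0, 0, 4, 0, 0, 0, 0, 0, 0, -8, 0, -4, 0, 0, 4, 0],
   [0, 0, -4, 0, 0, 0, 0, 0, -4, 0, -4, -4, 0, 0, 4, 0, 0, 4, 0, 0, 0, 0, 0, 0],
   [0, 0, 4, 0, -4, 0, 0, 0, 0, -4, 8, 4, 0, -8, 0, 0, 0, 8, 0, 0, 0, 0, 0, 0],
   [0, 0, 0, 0, -4, 0, 0, 0, 0, 0, 0, 4, 0, 0, -4, 0, 0, -4, 0, -4, 0, 0, -4, 0]]]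

end CfsgLib.Leech.Octad
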