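import Cfsg.Agent.Lib.Leech.Octad.Vectors
import Cfsg.Agent.Lib.Classical.SympTrans

/-!
Symplectic coordinates on the vectors of the octad orthogonal to the fixed vector.
-/

set_option autoImplicit false
set_option maxRecDepth 20000

namespace CfsgLib.Leech.Octad

open Cfsg CfsgLib.Golay CfsgLib.Leech CfsgLib.Classical.SympTrans

attribute [local irreducible] dL bL key keyL coord packB linL bits

/-- position of a basis vector -/
def pos6 : Fin 3 ⊕ Fin 3 → ℕ
  | .inl i => i.val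
  | .inr i => 3 + i.val

theorem pos6_lt (k : Fin 3 ⊕ Fin 3) : pos6 k < 6 := by
  rcases k with i | i <;> simp only [pos6] <;> omega

theorem bV6_eq (k : Fin 3 ⊕ Fin 3) : bV6 k = mkV (bvL.getD (pos6 k) []) := by
  rcases k with i | i <;> rfl

/-- the coordinates -/
noncomputable def piV (v : ↥leechLattice) : Fin 3 ⊕ Fin 3 → ZMod 2 := fun k => bl v (bV6 k.swap)

/-- supported on the octad and even on the fixed vector -/
def Perp (v : ↥leechLattice) : Prop := InO v ∧ bl v uV = 0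

theorem pair_ok : ∀ k l : Fin 3 ⊕ Fin 3,
    ((dotL (bvL.getD (pos6 k) []) (bvL.getD (pos6 l.swap) []) / 16 : ℤ) : ZMod 2) =
      if k = l then 1 else 0 := by decide +kernel

theorem unit_ok : (∀ k : Fin 6, dotL (bvL.getD k.val []) uL = 0) ∧
    (∀ j : Fin 8, dotL (zL.getD j.val []) uL = if j.val = 7 then 16 else 0) ∧
    dotL uL uL = 32 ∧ (∀ j : Fin 7, dotL (zL.getD j.val []) (zL.getD j.val []) = 32) := by decide +kernel

theorem piV_bV6 (k : Fin 3 ⊕ Fin 3) : piV (bV6 k) = Pi.single k 1 := by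
  funext l
  rw [piV, bV6_eq, bV6_eq, bl, dot_mkV (goodL_inL (good_bvL (pos6_lt k)))
    (goodL_inL (good_bvL (pos6_lt _))), pair_ok, Pi.single_apply]
  simp only [eq_comm]

theorem perp_bV6 (k : Fin 3 ⊕ Fin 3) : Perp (bV6 k) := by
  refine ⟨InO.bV6 k, ?_⟩
  rw [bl, bV6_eq, uV, dot_mkV (goodL_inL (good_bvL (pos6_lt k))) (goodL_inL good_ok.1),
    unit_ok.1 ⟨pos6 k, pos6_lt k⟩]
  rfl

theorem perp_uV : Perp uV := by
  refine ⟨InO.uV, ?_⟩
  rw [bl, uV, dot_mkV (goodL_inL good_ok.1) (goodL_inL good_ok.1), unit_ok.2.2.1]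
  decide

theorem piV_uV : piV uV = 0 := by
  funext k
  rw [piV, bl_comm]
  exact (perp_bV6 _).2

theorem dot_zV_uV (j : Fin 8) :
    dotInt (zV j : GolayPt → ℤ) (uV : GolayPt → ℤ) = if j.val = 7 then 16 else 0 := by
  rw [zV, uV, dot_mkV (goodL_inL (good_zL j)) (goodL_inL good_ok.1), unit_ok.2.1]

theorem piV_add {v w : ↥leechLattice} (hv : InO v) : piV (v + w) = piV v + piV w := by
  funext k
  exact bl_add_left hv (InO.bV6 _)

theorem piV_zsmul {v : ↥leechLattice} (hv : InO v) (c : ℤ) : piV (c • v) = (c : ZMod 2) • piV v := by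
  funext k
  exact bl_zsmul_left hv (InO.bV6 _) c

theorem piV_sum {ι : Type*} (s : Finset ι) (f : ι → ↥leechLattice) (hf : ∀ i ∈ s, InO (f i)) :
    piV (∑ i ∈ s, f i) = ∑ i ∈ s, piV (f i) := by
  funext k
  rw [Finset.sum_apply]
  exact bl_sum_left s f hf (InO.bV6 _)

theorem Perp.add {v w : ↥leechLattice} (hv : Perp v) (hw : Perp w) : Perp (v + w) :=
  ⟨hv.1.add hw.1, by rw [bl_add_left hv.1 InO.uV, hv.2, hw.2, add_zero]⟩

theorem Perp.zsmul {v : ↥leechLattice} (hv : Perp v) (c : ℤ) : Perp (c • v) :=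
  ⟨hv.1.zsmul c, by rw [bl_zsmul_left hv.1 InO.uV, hv.2, mul_zero]⟩

/-- the combination of the basis with given parities -/
noncomputable def lift6 (a : Fin 3 ⊕ Fin 3 → ZMod 2) : ↥leechLattice := ∑ k, ((a k).val : ℤ) • bV6 k

theorem inO_lift6 (a : Fin 3 ⊕ Fin 3 → ZMod 2) : InO (lift6 a) :=
  InO.sum _ _ fun k _ => (InO.bV6 k).zsmul _

theorem perp_lift6 (a : Fin 3 ⊕ Fin 3 → ZMod 2) : Perp (lift6 a) := by
  refine ⟨inO_lift6 a, ?_⟩
  rw [lift6, bl_sum_left _ _ (fun k _ => (InO.bV6 k).zsmul _) InO.uV]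
  exact Finset.sum_eq_zero fun k _ => ((perp_bV6 k).zsmul _).2

theorem piV_lift6 (a : Fin 3 ⊕ Fin 3 → ZMod 2) : piV (lift6 a) = a := by
  rw [lift6, piV_sum _ _ fun k _ => (InO.bV6 k).zsmul _]
  funext l
  rw [Finset.sum_apply, Finset.sum_eq_single l]
  · rw [piV_zsmul (InO.bV6 l), piV_bV6]
    simp
  · intro k _ hk
    rw [piV_zsmul (InO.bV6 k), piV_bV6]
    simp [Ne.symm hk]
  · intro h; exact absurd (Finset.mem_univ l) h

theorem dot_sum {ι : Type*} (s : Finset ι) (f : ι → ↥leechLattice) (y : GolayPt → ℤ) :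
    dotInt ((∑ i ∈ s, f i : ↥leechLattice) : GolayPt → ℤ) y = ∑ i ∈ s, dotInt (f i : GolayPt → ℤ) y := by
  classical
  induction s using Finset.induction_on with
  | empty => simp [dotInt_zero_left]
  | insert a s ha ih => rw [Finset.sum_insert ha, Finset.sum_insert ha, AddSubgroup.coe_add, dotInt_add_left', ih]

/-- one reduction -/
def redAt (j : ℕ) : List ℕ × ℕ × List ℤ := redL.getD j ([], 0, [])

theorem red_ok : ∀ j : Fin 7, ∀ i : Fin 24, (zL.getD j.val []).getD i.val 0 =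
    (∑ k : Fin 3 ⊕ Fin 3, (((redAt j.val).1.getD (pos6 k) 0 : ℕ) : ℤ) * (bvL.getD (pos6 k) []).getD i.val 0) +
      ((redAt j.val).2.1 : ℤ) * uL.getD i.val 0 +
      2 * ∑ l : Fin 8, (redAt j.val).2.2.getD l.val 0 * (zL.getD l.val []).getD i.val 0 := by
  decide +kernel

theorem mkV_apply {l : List ℤ} (h : goodL l = true) (p : GolayPt) :
    (mkV l : GolayPt → ℤ) p = l.getD (idx p) 0 := by
  rw [mkV_val (goodL_inL h)]; rfl

theorem reduce (j : Fin 7) : ∃ (n : Fin 3 ⊕ Fin 3 → ℤ) (e : ℤ) (h : ↥leechLattice), InO h ∧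
    zV (Fin.castSucc j) = (∑ k, n k • bV6 k) + e • uV + (2 : ℤ) • h := by
  refine ⟨fun k => (((redAt j.val).1.getD (pos6 k) 0 : ℕ) : ℤ), ((redAt j.val).2.1 : ℤ),
    ∑ l : Fin 8, (redAt j.val).2.2.getD l.val 0 • zV l,
    InO.sum _ _ fun l _ => (InO.zV l).zsmul _, Subtype.ext (funext fun p => ?_)⟩
  simp only [AddSubgroup.coe_add, AddSubgroup.coe_zsmul, AddSubgroup.val_finsetSum, Pi.add_apply,
    Pi.smul_apply, Finset.sum_apply, smul_eq_mul, zV, bV6_eq, uV, mkV_apply good_ok.1,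
    mkV_apply (good_bvL (pos6_lt _)), mkV_apply (good_zL _)]
  exact red_ok j ⟨idx p, idx_lt p⟩

theorem coef_seven {v : ↥leechLattice} (hv : InO v) :
    dotInt (v : GolayPt → ℤ) (zdV 7 : GolayPt → ℤ) / 16 = dotInt (v : GolayPt → ℤ) (uV : GolayPt → ℤ) / 16 := by
  conv_rhs => rw [expand hv, dot_sum]
  rw [Finset.sum_eq_single (7 : Fin 8)]
  · rw [AddSubgroup.coe_zsmul, dotInt_smul_left, dot_zV_uV,
      if_pos (show ((7 : Fin 8) : ℕ) = 7 from rfl), Int.mul_ediv_cancel _ (by norm_num)]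
  · intro j _ hj
    rw [AddSubgroup.coe_zsmul, dotInt_smul_left, dot_zV_uV, if_neg (show ¬ (j : ℕ) = 7 from fun e => hj (Fin.ext e)), mul_zero]
  · intro h; exact absurd (Finset.mem_univ _) h

/-- vanishing coordinates -/
theorem eq_of_piV_zero {r : ↥leechLattice} (hr : Perp r) (hp : piV r = 0) :
    ∃ (e : ℤ) (z : ↥leechLattice), InO z ∧ r = e • uV + (2 : ℤ) • z := by
  choose n e h hh hred using reduce
  set c : Fin 8 → ℤ := fun j => dotInt (r : GolayPt → ℤ) (zdV j : GolayPt → ℤ) / 16 with hc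
  obtain ⟨m, hm⟩ : (2 : ℤ) ∣ c 7 := by
    have := hr.2
    rw [bl, ← coef_seven hr.1] at this
    exact_mod_cast (ZMod.intCast_zmod_eq_zero_iff_dvd _ 2).1 this
  set N : Fin 3 ⊕ Fin 3 → ℤ := fun k => ∑ j : Fin 7, c (Fin.castSucc j) * n j k with hN
  set E : ℤ := ∑ j : Fin 7, c (Fin.castSucc j) * e j with hE
  set H : ↥leechLattice := (∑ j : Fin 7, c (Fin.castSucc j) • h j) + m • zV 7 with hH
  have hHO : InO H := (InO.sum _ _ fun j _ => (hh j).zsmul _).add ((InO.zV _).zsmul _)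
  have heq : r = (∑ k, N k • bV6 k) + E • uV + (2 : ℤ) • H := by
    conv_lhs => rw [expand hr.1]
    rw [Fin.sum_univ_castSucc]
    simp only [hN, hE, hH, show Fin.last 7 = (7 : Fin 8) from rfl, Finset.sum_smul, smul_add, Finset.smul_sum]
    rw [Finset.sum_comm]
    rw [show dotInt (r : GolayPt → ℤ) (zdV 7 : GolayPt → ℤ) / 16 = 2 * m from hm, mul_smul]
    calc (∑ j : Fin 7, c (Fin.castSucc j) • zV (Fin.castSucc j)) + (2 : ℤ) • m • zV 7
        = (∑ j : Fin 7, ((∑ k, (c (Fin.castSucc j) * n j k) • bV6 k) + (c (Fin.castSucc j) * e j) • uV +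
            (2 : ℤ) • c (Fin.castSucc j) • h j)) + (2 : ℤ) • m • zV 7 := by
          congr 1
          refine Finset.sum_congr rfl fun j _ => ?_
          rw [hred j, smul_add, smul_add, Finset.smul_sum, ← mul_smul (c _) (2 : ℤ),
            mul_comm (c _) 2, mul_smul (2 : ℤ)]
          simp only [mul_smul]
      _ = _ := by
          rw [Finset.sum_add_distrib, Finset.sum_add_distrib]
          abel
  have hpar : ∀ k, (2 : ℤ) ∣ N k := by
    intro k
    have h2 : piV r k = 0 := by rw [hp]; rfl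
    rw [heq, piV_add ((InO.sum _ _ fun k _ => (InO.bV6 k).zsmul _).add (InO.uV.zsmul _)),
      piV_add (InO.sum _ _ fun k _ => (InO.bV6 k).zsmul _), piV_sum _ _ fun k _ => (InO.bV6 k).zsmul _,
      piV_zsmul InO.uV, piV_uV, piV_zsmul hHO, show ((2 : ℤ) : ZMod 2) = 0 from rfl, zero_smul,
      smul_zero, add_zero, add_zero, Finset.sum_apply, Finset.sum_eq_single k] at h2
    · rw [piV_zsmul (InO.bV6 k), piV_bV6] at h2
      simp at h2
      exact_mod_cast (ZMod.intCast_zmod_eq_zero_iff_dvd _ 2).1 h2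
    · intro l _ hl
      rw [piV_zsmul (InO.bV6 l), piV_bV6]
      simp [Ne.symm hl]
    · intro h; exact absurd (Finset.mem_univ k) h
  choose M hM using hpar
  refine ⟨E, (∑ k, M k • bV6 k) + H, (InO.sum _ _ fun k _ => (InO.bV6 k).zsmul _).add hHO, ?_⟩
  have h2 : ∑ k, N k • bV6 k = (2 : ℤ) • ∑ k, M k • bV6 k := by
    rw [Finset.smul_sum]
    exact Finset.sum_congr rfl fun k _ => by rw [← mul_smul, hM k]
  rw [heq, h2, smul_add]
  abel_nf
  try simp [hH, smul_add]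

theorem bl_eq_zero_of_piV_zero {r y : ↥leechLattice} (hr : Perp r) (hp : piV r = 0) (hy : Perp y) :
    bl r y = 0 := by
  obtain ⟨e, z, hz, rfl⟩ := eq_of_piV_zero hr hp
  rw [bl_add_left (InO.uV.zsmul e) hy.1, bl_zsmul_left InO.uV hy.1, bl_zsmul_left hz hy.1, bl_comm, hy.2,
    show ((2 : ℤ) : ZMod 2) = 0 from rfl]
  simp

/-- the part outside the span of the lifts -/
theorem exists_remainder {x : ↥leechLattice} (hx : Perp x) :
    ∃ r : ↥leechLattice, Perp r ∧ piV r = 0 ∧ x = lift6 (piV x) + r := by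
  refine ⟨x + (-1 : ℤ) • lift6 (piV x), hx.add ((perp_lift6 _).zsmul _), ?_, by rw [neg_one_zsmul]; abel⟩
  rw [piV_add hx.1, piV_zsmul (inO_lift6 _), piV_lift6, show ((-1 : ℤ) : ZMod 2) = 1 from rfl, one_smul]
  funext k
  exact CharTwo.add_self_eq_zero _

/-- the scalar product in coordinates -/
theorem bl_eq_form {x y : ↥leechLattice} (hx : Perp x) (hy : Perp y) :
    bl x y = Cfsg.sympForm 3 (ZMod 2) (piV x) (piV y) := by
  obtain ⟨r, hr, hr0, he⟩ := exists_remainder hx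
  conv_lhs => rw [he]
  rw [bl_add_left (inO_lift6 _) hy.1, bl_eq_zero_of_piV_zero hr hr0 hy, add_zero, lift6,
    bl_sum_left _ _ (fun k _ => (InO.bV6 k).zsmul _) hy.1, f_apply, Fintype.sum_sum_type,
    ← Finset.sum_add_distrib]
  refine Finset.sum_congr rfl fun i _ => ?_
  rw [bl_zsmul_left (InO.bV6 _) hy.1, bl_zsmul_left (InO.bV6 _) hy.1, bl_comm, bl_comm (bV6 (.inr i)),
    show bl y (bV6 (.inl i)) = piV y (.inr i) from rfl, show bl y (bV6 (.inr i)) = piV y (.inl i) from rfl]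
  simp only [show ∀ a : ZMod 2, (((a.val : ℕ) : ℤ) : ZMod 2) = a from fun a => by revert a; decide]
  rw [sub_eq_add_neg, CharTwo.neg_eq]
  ring

end CfsgLib.Leech.Octad
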