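import Cfsg.Agent.Lib.Leech.Octad.Frame

/-!
The map from the centralizer of the octad involution to the symplectic group.
-/

set_option autoImplicit false
set_option maxRecDepth 20000

namespace CfsgLib.Leech.Octad

open Cfsg CfsgLib.Golay CfsgLib.Leech CfsgLib.Classical.SympTrans

attribute [local irreducible] dL bL key keyL coord packB linL bits

/-- the stabilizer of the fixed vector -/
noncomputable abbrev SU : Subgroup ↥Co0 := MulAction.stabilizer ↥Co0 uV

/-- complement of the octad -/
def d16 : ℕ := fullMask ^^^ oct0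

theorem d16_mem : dec d16 ∈ CS :=
  mem_supports_codeList.2 ⟨d16, inC_iff_mem_codeList.1 (by decide +kernel), rfl⟩

theorem mem_d16 {p : GolayPt} : p ∈ dec d16 ↔ p ∉ dec oct0 := by
  simp only [mem_dec, d16, Nat.testBit_xor, testBit_fullMask, idx_lt p, decide_true, Bool.true_bne,
    Bool.not_eq_true', Bool.not_eq_true]

/-- the octad involution -/
noncomputable def tO : ↥Co0 := mono (one_mem M24) d16_mem

theorem tO_smul (v : ↥leechLattice) (p : GolayPt) :
    ((tO • v : ↥leechLattice) : GolayPt → ℤ) p =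
      if p ∈ dec oct0 then (v : GolayPt → ℤ) p else -(v : GolayPt → ℤ) p := by
  rw [tO, mono, Iso.aut_smul]
  show monoFun 1 (dec d16) _ p = _
  unfold monoFun
  by_cases hp : p ∈ dec oct0
  · rw [if_pos hp, if_neg fun h => mem_d16.1 h hp]
    rfl
  · rw [if_neg hp, if_pos (mem_d16.2 hp)]
    rfl

theorem inO_iff {v : ↥leechLattice} : InO v ↔ tO • v = v := by
  constructor
  · intro h
    refine Subtype.ext (funext fun p => ?_)
    rw [tO_smul]
    split_ifs with hp
    · rfl
    · rw [h p hp, neg_zero]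
  · intro h p hp
    have := congrFun (congrArg Subtype.val h) p
    rw [tO_smul, if_neg hp] at this
    omega

/-- the involution in the stabilizer -/
noncomputable def tS : ↥SU := ⟨tO, MulAction.mem_stabilizer_iff.2 (inO_iff.1 InO.uV)⟩

/-- its centralizer -/
noncomputable abbrev CT : Subgroup ↥SU := Subgroup.centralizer ({tS} : Set ↥SU)

/-- the action as an additive map -/
def smulHom (g : ↥Co0) : ↥leechLattice →+ ↥leechLattice where
  toFun v := g • v
  map_zero' := smul_zero' g
  map_add' := smul_add' g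

/-- the underlying automorphism -/
abbrev auto (g : ↥CT) : ↥Co0 := ((g : ↥SU) : ↥Co0)

theorem auto_mul (g h : ↥CT) : auto (g * h) = auto g * auto h := rfl

theorem comm_tO (g : ↥CT) : auto g * tO = tO * auto g := by
  have := Subgroup.mem_centralizer_singleton_iff.1 g.2
  exact congrArg Subtype.val this

theorem smul_uV (g : ↥CT) : auto g • uV = uV := MulAction.mem_stabilizer_iff.1 g.1.2

theorem inO_smul (g : ↥CT) {v : ↥leechLattice} (hv : InO v) : InO (auto g • v) := by
  rw [inO_iff, ← mul_smul, ← comm_tO, mul_smul, inO_iff.1 hv]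

theorem bl_smul (g : ↥Co0) (v w : ↥leechLattice) : bl (g • v) (g • w) = bl v w := by
  rw [bl, bl, dotInt_smul]

theorem perp_smul (g : ↥CT) {v : ↥leechLattice} (hv : Perp v) : Perp (auto g • v) := by
  refine ⟨inO_smul g hv.1, ?_⟩
  have h := bl_smul (auto g) v uV
  rw [smul_uV] at h
  rw [h, hv.2]

/-- the matrix of an element -/
noncomputable def mat (g : ↥CT) : Matrix (Fin 3 ⊕ Fin 3) (Fin 3 ⊕ Fin 3) (ZMod 2) :=
  Matrix.of fun i j => piV (auto g • bV6 j) i

theorem piV_smul (g : ↥CT) {v : ↥leechLattice} (hv : Perp v) :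
    piV (auto g • v) = (mat g).mulVec (piV v) := by
  obtain ⟨r, hr, hr0, he⟩ := exists_remainder hv
  obtain ⟨e, z, hz, hrz⟩ := eq_of_piV_zero hr hr0
  have hgr : piV (auto g • r) = 0 := by
    rw [hrz, smul_add', show auto g • (e • uV) = smulHom (auto g) (e • uV) from rfl,
      show auto g • ((2 : ℤ) • z) = smulHom (auto g) ((2 : ℤ) • z) from rfl, map_zsmul, map_zsmul]
    show piV (e • (auto g • uV) + (2 : ℤ) • (auto g • z)) = 0
    rw [smul_uV, piV_add (InO.uV.zsmul _), piV_zsmul InO.uV, piV_uV, piV_zsmul (inO_smul g hz),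
      show ((2 : ℤ) : ZMod 2) = 0 from rfl, zero_smul, smul_zero, add_zero]
  conv_lhs => rw [he]
  rw [smul_add', piV_add (inO_smul g (inO_lift6 _)), hgr, add_zero, lift6,
    show auto g • (∑ k, ((piV v k).val : ℤ) • bV6 k) =
      smulHom (auto g) (∑ k, ((piV v k).val : ℤ) • bV6 k) from rfl, map_sum]
  simp only [map_zsmul]
  show piV (∑ k, ((piV v k).val : ℤ) • (auto g • bV6 k)) = _
  rw [piV_sum _ _ fun k _ => (inO_smul g (InO.bV6 k)).zsmul _]
  funext i
  rw [Finset.sum_apply, Matrix.mulVec, dotProduct]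
  refine Finset.sum_congr rfl fun k _ => ?_
  rw [piV_zsmul (inO_smul g (InO.bV6 k)), Pi.smul_apply, smul_eq_mul, mul_comm]
  simp only [show ∀ a : ZMod 2, (((a.val : ℕ) : ℤ) : ZMod 2) = a from fun a => by revert a; decide]
  rfl

theorem mat_mem (g : ↥CT) : mat g ∈ Matrix.symplecticGroup (Fin 3) (ZMod 2) := by
  refine mem_iff_f.2 fun u v => ?_
  conv_lhs => rw [← piV_lift6 u, ← piV_lift6 v]
  rw [← piV_smul g (perp_lift6 u), ← piV_smul g (perp_lift6 v),
    ← bl_eq_form (perp_smul g (perp_lift6 u)) (perp_smul g (perp_lift6 v)), bl_smul,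
    bl_eq_form (perp_lift6 u) (perp_lift6 v), piV_lift6, piV_lift6]

/-- the map to the symplectic group -/
noncomputable def toSp : ↥CT →* ↥(Matrix.symplecticGroup (Fin 3) (ZMod 2)) :=
  MonoidHom.mk' (fun g => ⟨mat g, mat_mem g⟩) fun g h => ext_app fun x => by
    rw [app_mul]
    show (mat (g * h)).mulVec x = (mat g).mulVec ((mat h).mulVec x)
    conv_lhs => rw [← piV_lift6 x]
    conv_rhs => rw [← piV_lift6 x]
    rw [← piV_smul _ (perp_lift6 x), ← piV_smul _ (perp_lift6 x),
      ← piV_smul _ (perp_smul _ (perp_lift6 x)), auto_mul, mul_smul]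

theorem app_toSp (g : ↥CT) (x : Fin 3 ⊕ Fin 3 → ZMod 2) :
    app (toSp g) x = piV (auto g • lift6 x) := by
  rw [piV_smul g (perp_lift6 x), piV_lift6]
  rfl

theorem toSp_eq_one_iff {g : ↥CT} :
    toSp g = 1 ↔ ∀ v, Perp v → piV (auto g • v) = piV v := by
  constructor
  · intro h v hv
    rw [piV_smul g hv]
    show app (toSp g) (piV v) = piV v
    rw [h, app_one]
  · intro h
    refine ext_app fun x => ?_
    rw [app_toSp, app_one, h _ (perp_lift6 x), piV_lift6]

end CfsgLib.Leech.Octad
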