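import Cfsg.Agent.Lib.Leech.Octad.Hom
import Cfsg.Agent.Lib.Leech.CrossLocal

/-!
The kernel of the map to the symplectic group: signed permutations fixing the octad pointwise.
-/

set_option autoImplicit false
set_option maxRecDepth 20000

namespace CfsgLib.Leech.Octad

open Cfsg CfsgLib.Golay CfsgLib.Leech CfsgLib.Classical.SympTrans

attribute [local irreducible] dL bL key keyL coord packB linL bits

/-- the first seven lie in the orthogonal of the fixed vector -/
theorem perp_zV (j : Fin 7) : Perp (zV (Fin.castSucc j)) := by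
  refine ⟨InO.zV _, ?_⟩
  rw [bl, dot_zV_uV, if_neg (show ¬ (Fin.castSucc j : ℕ) = 7 by simp; omega)]
  rfl

theorem sqNorm_zV (j : Fin 7) : sqNorm (zV (Fin.castSucc j) : GolayPt → ℤ) = 32 := by
  rw [sqNorm_eq_dotInt, zV, dot_mkV (goodL_inL (good_zL _)) (goodL_inL (good_zL _))]
  exact unit_ok.2.2.2 j

theorem sqNorm_zV_add (j : Fin 7) :
    sqNorm ((zV (Fin.castSucc j) + uV : ↥leechLattice) : GolayPt → ℤ) = 64 := by
  rw [AddSubgroup.coe_add, sqNorm_add, sqNorm_zV, dot_zV_uV,
    if_neg (show ¬ (Fin.castSucc j : ℕ) = 7 by simp; omega), sqNorm_eq_dotInt (x := (uV : GolayPt → ℤ)),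
    uV, dot_mkV (goodL_inL good_ok.1) (goodL_inL good_ok.1), unit_ok.2.2.1]
  norm_num

theorem key_add_two (a h : ↥leechLattice) :
    key ((a + (2 : ℤ) • h : ↥leechLattice) : GolayPt → ℤ) = key (a : GolayPt → ℤ) := by
  rw [← isDbl_sub_iff]
  exact ⟨h, by rw [add_sub_cancel_left, two_zsmul]⟩

theorem sign_zV {g : ↥CT} (hg : toSp g = 1) (j : Fin 7) :
    ∃ c : ℤ, (c = 1 ∨ c = -1) ∧ auto g • zV (Fin.castSucc j) = c • zV (Fin.castSucc j) := by
  set s := zV (Fin.castSucc j) with hs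
  have hp : Perp s := perp_zV j
  have hd : Perp (auto g • s + (-1 : ℤ) • s) := (perp_smul g hp).add (hp.zsmul _)
  have h0 : piV (auto g • s + (-1 : ℤ) • s) = 0 := by
    rw [piV_add (inO_smul g hp.1), piV_zsmul hp.1, toSp_eq_one_iff.1 hg s hp,
      show ((-1 : ℤ) : ZMod 2) = 1 from rfl, one_smul]
    funext k
    exact CharTwo.add_self_eq_zero _
  obtain ⟨e, z, -, he⟩ := eq_of_piV_zero hd h0
  have he' : auto g • s = s + (e • uV + (2 : ℤ) • z) := by
    rw [← he, neg_one_zsmul]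
    abel
  have hn : sqNorm ((auto g • s : ↥leechLattice) : GolayPt → ℤ) = 32 := by
    rw [sqNorm_smul, hs, sqNorm_zV]
  rcases Int.even_or_odd' e with ⟨m, rfl | rfl⟩
  · have hk : key ((auto g • s : ↥leechLattice) : GolayPt → ℤ) = key (s : GolayPt → ℤ) := by
      rw [show auto g • s = s + (2 : ℤ) • (m • uV + z) by rw [he', smul_add, mul_smul], key_add_two]
    rcases eq_or_neg_of_key (by rw [hn]; norm_num) (by rw [hs, sqNorm_zV]; norm_num) hk with h | h
    · exact ⟨1, Or.inl rfl, by rw [one_smul, ← h]⟩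
    · exact ⟨-1, Or.inr rfl, by rw [neg_one_zsmul]; exact (neg_eq_iff_eq_neg.mpr h).symm⟩
  · exfalso
    have hk : key ((auto g • s : ↥leechLattice) : GolayPt → ℤ) =
        key ((s + uV : ↥leechLattice) : GolayPt → ℤ) := by
      rw [show auto g • s = (s + uV) + (2 : ℤ) • (m • uV + z) by
        rw [he', smul_add, add_smul, mul_smul, one_smul]; abel, key_add_two]
    have := sqNorm_eq_of_key (Subtype.prop _) (Subtype.prop _) (by rw [hn]; norm_num)
      (by rw [hs, sqNorm_zV_add]) hk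
    rw [hn, hs, sqNorm_zV_add] at this
    norm_num at this

theorem edge_ok : ∀ p ∈ ([(0, 6), (6, 2), (2, 3), (3, 1), (3, 4), (4, 5)] : List (Fin 7 × Fin 7)),
    dotL (zL.getD p.1.val []) (zL.getD p.2.val []) ≠ 0 := by decide +kernel

theorem twice_ok : ∀ i : Fin 24, 2 * (zL.getD 7 []).getD i.val 0 =
    (∑ j : Fin 7, ([-3, -3, -5, -6, -4, -2, -4] : List ℤ).getD j.val 0 * (zL.getD j.val []).getD i.val 0) +
      uL.getD i.val 0 := by decide +kernel

theorem twice_zV : (2 : ℤ) • zV 7 =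
    (∑ j : Fin 7, ([-3, -3, -5, -6, -4, -2, -4] : List ℤ).getD j.val 0 • zV (Fin.castSucc j)) + uV := by
  refine Subtype.ext (funext fun p => ?_)
  simp only [AddSubgroup.coe_add, AddSubgroup.coe_zsmul, AddSubgroup.val_finsetSum, Pi.add_apply,
    Pi.smul_apply, Finset.sum_apply, smul_eq_mul, zV, uV, mkV_apply good_ok.1, mkV_apply (good_zL _)]
  exact twice_ok ⟨idx p, idx_lt p⟩

/-- on the vectors of the octad an element of the kernel is trivial or the reflection fixing the fixed vector -/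
theorem smul_inO {g : ↥CT} (hg : toSp g = 1) :
    ∃ c : ℤ, (c = 1 ∨ c = -1) ∧ ∀ v, InO v →
      (2 : ℤ) • (auto g • v) = (2 * c) • v + ((1 - c) * (dotInt (v : GolayPt → ℤ) (uV : GolayPt → ℤ) / 16)) • uV := by
  choose c hc hcs using sign_zV hg
  have hedge : ∀ p ∈ ([(0, 6), (6, 2), (2, 3), (3, 1), (3, 4), (4, 5)] : List (Fin 7 × Fin 7)),
      c p.1 = c p.2 := by
    intro p hp
    have h := dotInt_smul (auto g) (zV (Fin.castSucc p.1)) (zV (Fin.castSucc p.2))
    rw [hcs, hcs, AddSubgroup.coe_zsmul, AddSubgroup.coe_zsmul, dotInt_smul_left, dotInt_comm,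
      dotInt_smul_left, dotInt_comm, zV, zV, dot_mkV (goodL_inL (good_zL _)) (goodL_inL (good_zL _))] at h
    have hne := edge_ok p hp
    rcases hc p.1 with h1 | h1 <;> rcases hc p.2 with h2 | h2 <;> rw [h1, h2] at h ⊢ <;>
      simp only [Fin.val_castSucc] at h <;> omega
  have hall : ∀ j, c j = c 0 := by
    intro j
    have h06 := hedge (0, 6) (by simp)
    have h62 := hedge (6, 2) (by simp)
    have h23 := hedge (2, 3) (by simp)
    have h31 := hedge (3, 1) (by simp)
    have h34 := hedge (3, 4) (by simp)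
    have h45 := hedge (4, 5) (by simp)
    simp only at h06 h62 h23 h31 h34 h45
    fin_cases j <;> simp_all
  refine ⟨c 0, hc 0, ?_⟩
  have h7 : (2 : ℤ) • (auto g • zV 7) = (2 * c 0) • zV 7 + (1 - c 0) • uV := by
    rw [show (2 : ℤ) • (auto g • zV 7) = smulHom (auto g) ((2 : ℤ) • zV 7) from
      (map_zsmul (smulHom (auto g)) _ _).symm, twice_zV, map_add, map_sum]
    simp only [map_zsmul]
    show (∑ j : Fin 7, _ • (auto g • zV (Fin.castSucc j))) + auto g • uV = _
    simp only [hcs, hall, smul_uV]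
    simp only [mul_comm (2 : ℤ), mul_smul, twice_zV, smul_add, Finset.smul_sum, smul_comm (c 0), sub_smul,
      one_smul]
    abel
  intro v hv
  have hk := coef_seven hv
  conv_lhs => rw [expand hv]
  rw [show auto g • (∑ j, _ : ↥leechLattice) = smulHom (auto g) _ from rfl, map_sum, Finset.smul_sum]
  conv_rhs => rw [expand hv, Finset.smul_sum]
  rw [← expand hv, ← hk, Fin.sum_univ_castSucc, Fin.sum_univ_castSucc (n := 7)]
  simp only [map_zsmul, show Fin.last 7 = (7 : Fin 8) from rfl]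
  show (∑ j : Fin 7, (2 : ℤ) • _ • (auto g • zV (Fin.castSucc j))) + (2 : ℤ) • _ • (auto g • zV 7) = _
  rw [smul_comm (2 : ℤ) (dotInt (v : GolayPt → ℤ) (zdV 7 : GolayPt → ℤ) / 16), h7, smul_add,
    Finset.sum_congr rfl fun j _ => show _ = (2 * c 0) •
      (dotInt (v : GolayPt → ℤ) (zdV (Fin.castSucc j) : GolayPt → ℤ) / 16) • zV (Fin.castSucc j) by
      rw [hcs, hall, ← mul_smul, ← mul_smul, ← mul_smul]; congr 1; ring,
    smul_comm (2 * c 0)]
  module

theorem inO_eightL {p : GolayPt} (hp : p ∈ dec oct0) : InO (eightL p) := by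
  intro q hq
  show eight p q = 0
  rw [eight, Pi.single_eq_of_ne]
  rintro rfl
  exact hq hp

theorem uV_apply (p : GolayPt) : (uV : GolayPt → ℤ) p = if idx p = 14 ∨ idx p = 17 then 4 else 0 := by
  rw [uV, mkV_apply good_ok.1]
  exact (show ∀ i : Fin 24, uL.getD i.val 0 = if i.val = 14 ∨ i.val = 17 then 4 else 0 by decide +kernel)
    ⟨idx p, idx_lt p⟩

theorem F6_facts : F6 &&& oct0 = F6 ∧ (∀ i : Fin 24, F6.testBit i.val = true → i.val ≠ 14 ∧ i.val ≠ 17) ∧
    oct0.testBit 14 = true ∧ F6.testBit 23 = true := by decide +kernel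

theorem smul_eight {g : ↥CT} {c : ℤ} (hc : c = 1 ∨ c = -1)
    (h : ∀ v, InO v → (2 : ℤ) • (auto g • v) = (2 * c) • v +
      ((1 - c) * (dotInt (v : GolayPt → ℤ) (uV : GolayPt → ℤ) / 16)) • uV)
    {p : GolayPt} (hp : p ∈ dec oct0) (q : GolayPt) :
    ((auto g • eightL p : ↥leechLattice) : GolayPt → ℤ) q = c * eight p q +
      if c = 1 then 0 else (if idx p = 14 ∨ idx p = 17 then 2 else 0) * (uV : GolayPt → ℤ) q := by
  have h' := congrFun (congrArg Subtype.val (h _ (inO_eightL hp))) q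
  simp only [AddSubgroup.coe_add, AddSubgroup.coe_zsmul, Pi.add_apply, Pi.smul_apply, smul_eq_mul] at h'
  rw [show ((eightL p : ↥leechLattice) : GolayPt → ℤ) = eight p from rfl, dotInt_comm, dotInt_eight,
    uV_apply p] at h'
  rcases hc with rfl | rfl
  · rw [if_pos rfl]; omega
  · rw [if_neg (by norm_num)]
    split_ifs at h' ⊢ <;> norm_num at h' ⊢ <;> omega

/-- elements of the kernel are signed permutations fixing the octad pointwise with no sign on it -/
theorem kernel_form {g : ↥CT} (hg : toSp g = 1) :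
    ∃ (σ : Equiv.Perm GolayPt) (d : Finset GolayPt) (hσ : σ ∈ M24) (hd : d ∈ CS),
      σ ∈ fixH M24 F6 ∧ Disjoint d (dec oct0) ∧ auto g = mono hσ hd := by
  obtain ⟨c, hc, h⟩ := smul_inO hg
  have hnone : (none : GolayPt) ∈ dec F6 := by rw [mem_dec]; exact F6_facts.2.2.2
  have hF : ∀ p ∈ dec F6, p ∈ dec oct0 ∧ ¬(idx p = 14 ∨ idx p = 17) := by
    intro p hp
    refine ⟨?_, ?_⟩
    · rw [← F6_facts.1, dec_and] at hp
      exact (Finset.mem_inter.1 hp).2
    · have := F6_facts.2.1 ⟨idx p, idx_lt p⟩ (mem_dec.1 hp)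
      simp only at this
      omega
  have hcross : auto g ∈ crossStab := by
    rw [mem_crossStab_iff_dbl]
    have hv : auto g • v8 = c • v8 := by
      refine Subtype.ext (funext fun q => ?_)
      rw [smul_eight hc h (hF _ hnone).1, if_neg (hF _ hnone).2]
      simp [v8, eightL]
    rw [hv]
    rcases hc with rfl | rfl
    · rw [one_smul, sub_self]; exact isDbl_zero
    · exact ⟨-v8, by rw [neg_one_zsmul]; abel⟩
  obtain ⟨σ, d, hσ, hd, he⟩ := crossStab_eq_mono hcross
  have hσF : σ ∈ fixH M24 F6 := by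
    refine mem_fixH.2 ⟨hσ, fun p hp => ?_⟩
    refine ((mono_smul_eight hσ hd p p).1 ?_)
    rw [← he, smul_eight hc h (hF p hp).1, if_neg (hF p hp).2]
    rcases hc with rfl | rfl <;> simp [eight]
  have hfix : ∀ p ∈ dec oct0, σ p = p :=
    (mem_fixH.1 (show σ ∈ fixH M24 oct0 from (show fixH M24 oct0 = fixH M24 F6 from fix_oct0_eq).symm ▸ hσF)).2
  obtain rfl : c = 1 := by
    refine hc.resolve_right fun hc' => ?_
    subst hc'
    have h14 : pt 14 ∈ dec oct0 := by rw [mem_dec, idx_pt 14 (by norm_num)]; exact F6_facts.2.2.1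
    have := (mono_smul_eight hσ hd (pt 14) (pt 14)).2 (hfix _ h14)
    rw [← he, smul_eight (Or.inr rfl) h h14, uV_apply, idx_pt 14 (by norm_num)] at this
    simp [eight] at this
  refine ⟨σ, d, hσ, hd, hσF, ?_, he⟩
  rw [Finset.disjoint_left]
  intro p hpd hpO
  have := smul_eight (Or.inl rfl) h hpO p
  rw [he, mono, Iso.aut_smul, if_pos rfl] at this
  change monoFun σ d (eight p) p = _ at this
  simp [monoFun, hpd, hfix p hpO, eight] at this

/-- conversely these are in the kernel -/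
theorem mem_kernel {σ : Equiv.Perm GolayPt} {d : Finset GolayPt} (hσ : σ ∈ M24) (hd : d ∈ CS)
    (hσF : σ ∈ fixH M24 F6) (hdis : Disjoint d (dec oct0)) :
    ∃ g : ↥CT, auto g = mono hσ hd ∧ toSp g = 1 := by
  have hfix : ∀ p ∈ dec oct0, σ p = p :=
    (mem_fixH.1 (show σ ∈ fixH M24 oct0 from (show fixH M24 oct0 = fixH M24 F6 from fix_oct0_eq).symm ▸ hσF)).2
  have hout : ∀ p, p ∉ dec oct0 → σ p ∉ dec oct0 := fun p hp h => hp (by
    rwa [← σ.injective (hfix _ h)])
  have hact : ∀ v, InO v → mono hσ hd • v = v := by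
    intro v hv
    refine Subtype.ext (funext fun p => ?_)
    rw [mono, Iso.aut_smul]
    show monoFun σ d _ p = _
    unfold monoFun
    by_cases hp : p ∈ dec oct0
    · rw [if_neg (Finset.disjoint_right.1 hdis hp), hfix p hp]
    · rw [hv p hp, hv _ (hout p hp), neg_zero, ite_self]
  have hS : mono hσ hd ∈ SU := MulAction.mem_stabilizer_iff.2 (hact _ InO.uV)
  have hC : (⟨mono hσ hd, hS⟩ : ↥SU) ∈ CT := by
    refine Subgroup.mem_centralizer_singleton_iff.2 (Subtype.ext (aut_ext fun v => Subtype.ext (funext fun p => ?_)))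
    show ((mono hσ hd * tO) • v : ↥leechLattice).1 p = ((tO * mono hσ hd) • v : ↥leechLattice).1 p
    rw [mul_smul, mul_smul, tO_smul, mono, Iso.aut_smul, Iso.aut_smul]
    show monoFun σ d _ p = if p ∈ dec oct0 then monoFun σ d _ p else -monoFun σ d _ p
    unfold monoFun
    rw [tO_smul]
    by_cases hp : p ∈ dec oct0
    · rw [hfix p hp, if_pos hp, if_pos hp]
    · rw [if_neg hp, if_neg (hout p hp)]
      split <;> rfl
  exact ⟨⟨⟨_, hS⟩, hC⟩, rfl, toSp_eq_one_iff.2 fun v hv => by rw [show auto ⟨⟨_, hS⟩, hC⟩ • v = v from hact v hv.1]⟩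

end CfsgLib.Leech.Octad
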