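import Cfsg.Agent.Lib.Leech.Octad.Core

/-!
Surjectivity on the symplectic group and the largest normal 2-subgroup.
-/

set_option autoImplicit false
set_option maxRecDepth 20000

namespace CfsgLib.Leech.Octad

open Cfsg CfsgLib.Golay CfsgLib.Leech CfsgLib.Classical.SympTrans

attribute [local irreducible] dL bL key keyL coord packB linL bits

local notation "ω" => Cfsg.sympForm 3 (ZMod 2)

/-- the image of a coordinate list -/
def imgL (W : List (List ℤ)) (l : List ℤ) : List ℤ :=
  (List.range 24).map fun i => linAt (coordL l) W i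

/-- one lifting element -/
def liftW (k : ℕ) : List (List ℤ) := liftL.getD k []

/-- the identity, packed -/
def idP : ℕ := powP trans6.headI 0

/-- a vector by its bit pattern -/
def vecM (n : ℕ) : Fin 3 ⊕ Fin 3 → ZMod 2 := fun k => if n.testBit (pos6 k) then 1 else 0

/-- the pattern of one centre -/
def centreV (k : ℕ) : Fin 3 ⊕ Fin 3 → ZMod 2 := fun i => ((centreL.getD k []).getD (pos6 i) 0 : ℕ)

theorem lift_chk : ∀ k : Fin 7, stabOK uL (liftW k.val) = true ∧
    mulC ((liftW k.val).map keyL) (bL.map fun l => keyL (monoL idP d16 l)) =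
      mulC (bL.map fun l => keyL (monoL idP d16 l)) ((liftW k.val).map keyL) := by decide +kernel

theorem trans_chk : ∀ k : Fin 7, ∀ i j : Fin 3 ⊕ Fin 3,
    ((dotL (imgL (liftW k.val) (bvL.getD (pos6 j) [])) (bvL.getD (pos6 i.swap) []) / 16 : ℤ) : ZMod 2) =
      (if i = j then 1 else 0) + centreV k.val j.swap * centreV k.val i := by decide +kernel

theorem id_chk : inM24 idP = true ∧ inC d16 = true ∧ trans6.headI ∈ trans6 := by decide +kernel

theorem mkV_eq_mk {l : List ℤ} (h : inL l = true) : mkV l = ⟨vec l, vec_mem h⟩ :=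
  Subtype.ext (mkV_val h)

theorem act_tO {k : ℕ} (hk : k < 2 ^ 24) :
    act tO k = comb (bL.map fun l => keyL (monoL idP d16 l)) k := by
  have h1 : toPerm idP = 1 := by
    rw [idP, (toPerm_powP (valid_trans id_chk.2.2) 0).2, pow_zero]
  rw [← act_mono id_chk.1 id_chk.2.1 hk (h1 ▸ one_mem M24) d16_mem]
  congr 1
  rw [tO]
  congr 1
  exact h1.symm

theorem exists_lift (k : Fin 7) : ∃ g : ↥CT,
    ∀ l, inL l = true → ((auto g • mkV l : ↥leechLattice) : GolayPt → ℤ) = vec (imgL (liftW k.val) l) := by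
  obtain ⟨hok, hcomm⟩ := lift_chk k
  simp only [stabOK, Bool.and_eq_true, List.all_eq_true, List.mem_range, beq_iff_eq] at hok
  set g : ↥Co0 := (linIso hok.1).aut with hg
  have himg : ∀ l, inL l = true →
      ((g • mkV l : ↥leechLattice) : GolayPt → ℤ) = vec (imgL (liftW k.val) l) := by
    intro l hl
    rw [hg, Iso.aut_smul, mkV_val hl]
    show linF (liftW k.val) (vec l) = _
    funext p
    rw [linF, linL_vec, ofFn_coord_vec (inL_length hl), vec, imgL,
      List.getD_eq_getElem _ _ (by simpa using idx_lt p), List.getElem_map, List.getElem_range]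
  have hfix : g • uV = uV := by
    refine Subtype.ext (funext fun p => ?_)
    rw [uV, himg _ (goodL_inL good_ok.1), mkV_val (goodL_inL good_ok.1), vec, vec, imgL,
      List.getD_eq_getElem _ _ (by simpa using idx_lt p), List.getElem_map, List.getElem_range]
    exact hok.2 _ (idx_lt p)
  have hV := goodL_inL good_ok.1
  have hmk : (uV : ↥leechLattice) = ⟨vec uL, vec_mem hV⟩ := mkV_eq_mk hV
  have hne : vec uL ≠ 0 := by
    intro h
    have := congrFun h (pt 14)
    revert this
    decide +kernel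
  have ht : tO • uV = uV := inO_iff.1 InO.uV
  have hc : g * tO = tO * g := by
    have hm1 : g * tO ∈ stabL hV := by
      rw [MulAction.mem_stabilizer_iff, ← hmk, mul_smul, ht, hfix]
    have hm2 : tO * g ∈ stabL hV := by
      rw [MulAction.mem_stabilizer_iff, ← hmk, mul_smul, hfix, ht]
    have hga : ∀ j < 2 ^ 24, act g j = comb ((liftW k.val).map keyL) j := fun j hj => act_lin hok.1 hj
    exact congrArg Subtype.val (Rep.eq hV hne
      (g := (⟨g * tO, hm1⟩ : ↥(stabL hV))) (h := ⟨tO * g, hm2⟩)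
      (c := mulC ((liftW k.val).map keyL) (bL.map fun l => keyL (monoL idP d16 l)))
      (fun j hj => by rw [act_mul, hga _ (act_lt _ _), act_tO hj, mulC, comb_comb])
      (fun j hj => by rw [hcomm, act_mul, act_tO (act_lt _ _), hga j hj, mulC, comb_comb]))
  refine ⟨⟨⟨g, MulAction.mem_stabilizer_iff.2 hfix⟩, ?_⟩, himg⟩
  exact Subgroup.mem_centralizer_singleton_iff.2 (Subtype.ext hc)

theorem f_single (v : Fin 3 ⊕ Fin 3 → ZMod 2) (j : Fin 3 ⊕ Fin 3) :
    ω (Pi.single j 1) v = v j.swap := by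
  rw [f_swap]
  rcases j with i | i
  · rw [f_inl, CharTwo.neg_eq]; rfl
  · rw [f_inr, neg_neg]; rfl

theorem centre_mem (k : Fin 7) : T (centreV k.val) 1 ∈ toSp.range := by
  obtain ⟨g, hg⟩ := exists_lift k
  refine ⟨g, Subtype.ext (Matrix.ext_of_mulVec_single fun j => ?_)⟩
  show (mat g).mulVec (Pi.single j 1) = app (T (centreV k.val) 1) (Pi.single j 1)
  rw [app_T, ← piV_bV6 j, ← piV_smul g (perp_bV6 j), piV_bV6, f_single, one_mul]
  funext i
  have hb := goodL_inL (good_bvL (pos6_lt j))
  show bl (auto g • bV6 j) (bV6 i.swap) = _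
  rw [bl, bV6_eq, bV6_eq, hg _ hb, mkV_val (goodL_inL (good_bvL (pos6_lt _))),
    dotInt_vec (by simp [imgL]) (inL_length (goodL_inL (good_bvL (pos6_lt _)))), trans_chk,
    Pi.add_apply, Pi.single_apply, Pi.smul_apply, smul_eq_mul]

/-- the form on bit patterns -/
def omM (x y : ℕ) : Bool :=
  ((x.testBit 0 && y.testBit 3) != (x.testBit 3 && y.testBit 0)) !=
    (((x.testBit 1 && y.testBit 4) != (x.testBit 4 && y.testBit 1)) !=
      ((x.testBit 2 && y.testBit 5) != (x.testBit 5 && y.testBit 2)))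

/-- one round of closing up -/
def grow (L : List ℕ) : List ℕ :=
  (List.range 64).filter fun x => L.contains x || L.any fun v => L.contains (x ^^^ v) && omM (x ^^^ v) v

/-- the starting patterns -/
def start : List ℕ :=
  centreL.map fun c => ((List.range 6).map fun i => c.getD i 0 * 2 ^ i).sum

theorem start_ok : ∀ x ∈ start, ∃ k : Fin 7, vecM x = centreV k.val := by decide +kernel

theorem xor_vecM (x v : ℕ) : vecM x = vecM (x ^^^ v) + vecM v := by
  funext i
  simp only [vecM, Pi.add_apply, Nat.testBit_xor]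
  generalize x.testBit (pos6 i) = a
  generalize v.testBit (pos6 i) = b
  cases a <;> cases b <;> decide

theorem omM_eq (x y : ℕ) : ω (vecM x) (vecM y) = if omM x y = true then 1 else 0 := by
  rw [f_apply, Fin.sum_univ_three, omM]
  simp only [vecM, pos6]
  simp only [show ((0 : Fin 3).val) = 0 from rfl, show ((1 : Fin 3).val) = 1 from rfl,
    show ((2 : Fin 3).val) = 2 from rfl]
  generalize x.testBit 0 = a0
  generalize x.testBit 1 = a1
  generalize x.testBit 2 = a2
  generalize x.testBit 3 = a3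
  generalize x.testBit 4 = a4
  generalize x.testBit 5 = a5
  generalize y.testBit 0 = b0
  generalize y.testBit 1 = b1
  generalize y.testBit 2 = b2
  generalize y.testBit 3 = b3
  generalize y.testBit 4 = b4
  generalize y.testBit 5 = b5
  revert a0 a1 a2 a3 a4 a5 b0 b1 b2 b3 b4 b5
  decide +kernel

theorem grow_mem {L : List ℕ} (h : ∀ x ∈ L, T (vecM x) 1 ∈ toSp.range) :
    ∀ x ∈ grow L, T (vecM x) 1 ∈ toSp.range := by
  intro x hx
  simp only [grow, List.mem_filter, Bool.or_eq_true, List.contains_iff_mem, List.any_eq_true,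
    Bool.and_eq_true] at hx
  rcases hx.2 with hx | ⟨v, hv, hxv, hom⟩
  · exact h x hx
  · have h2 := conj_T (T (vecM v) 1) (vecM (x ^^^ v)) (1 : ZMod 2)
    rw [app_T, omM_eq, if_pos hom, one_mul, one_smul, ← xor_vecM] at h2
    rw [← h2]
    exact mul_mem (mul_mem (h v hv) (h _ hxv)) (inv_mem (h v hv))

theorem all_ok : ∀ u : Fin 3 ⊕ Fin 3 → ZMod 2, u = 0 ∨
    ∃ x ∈ grow (grow (grow (grow start))), vecM x = u := by decide +kernel

theorem toSp_surjective : Function.Surjective toSp := by
  rw [← MonoidHom.range_eq_top, eq_top_iff, ← gen_univ, gen, Subgroup.closure_le]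
  rintro _ ⟨u, -, c, rfl⟩
  have h0 : ∀ x ∈ start, T (vecM x) 1 ∈ toSp.range := by
    intro x hx
    obtain ⟨k, hk⟩ := start_ok x hx
    exact hk ▸ centre_mem k
  rcases (show ∀ c : ZMod 2, c = 0 ∨ c = 1 by decide) c with rfl | rfl
  · rw [T_zero]; exact one_mem _
  · rcases all_ok u with rfl | ⟨x, hx, rfl⟩
    · rw [T_zero']; exact one_mem _
    · exact grow_mem (grow_mem (grow_mem (grow_mem h0))) x hx

/-- the symplectic group has no normal 2-subgroup -/
theorem eq_bot_of_normal_two (N : Subgroup ↥(Matrix.symplecticGroup (Fin 3) (ZMod 2))) [N.Normal]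
    (hN : IsPGroup 2 N) : N = ⊥ := by
  haveI : Fact (Nat.Prime 2) := ⟨Nat.prime_two⟩
  letI : MulAction ↥N (Fin 3 ⊕ Fin 3 → ZMod 2) :=
    { smul := fun n x => app n.1 x
      one_smul := fun x => app_one x
      mul_smul := fun a b x => app_mul a.1 b.1 x }
  have h0 : (0 : Fin 3 ⊕ Fin 3 → ZMod 2) ∈ MulAction.fixedPoints ↥N (Fin 3 ⊕ Fin 3 → ZMod 2) :=
    fun n => show app n.1 0 = 0 from Matrix.mulVec_zero _
  obtain ⟨v, hv, hne⟩ := hN.exists_fixed_point_of_prime_dvd_card_of_fixed_point
    (α := Fin 3 ⊕ Fin 3 → ZMod 2) (by rw [Nat.card_eq_fintype_card]; simp) h0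
  rw [Subgroup.eq_bot_iff_forall]
  intro n hn
  refine ext_app fun w => ?_
  rw [app_one]
  by_cases hw : w = 0
  · subst hw; exact Matrix.mulVec_zero _
  obtain ⟨g, hg⟩ := exists_app_eq (Ne.symm hne) hw
  have h := hv ⟨g⁻¹ * n * g, by simpa using Subgroup.Normal.conj_mem ‹N.Normal› n hn g⁻¹⟩
  change app (g⁻¹ * n * g) v = v at h
  rw [app_mul, app_mul, hg] at h
  rw [← hg]
  conv_rhs => rw [← h, app_inv']
  rw [hg]

theorem pCore_CT : Cfsg.pCore 2 ↥CT = KT := by
  refine le_antisymm (fun x hx => ?_) (Fitting.le_pCore inferInstance (IsPGroup.of_card natCard_KT))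
  haveI : ((Cfsg.pCore 2 ↥CT).map toSp).Normal :=
    Subgroup.Normal.map (Fitting.pCore_normal 2) _ toSp_surjective
  have h := eq_bot_of_normal_two _ ((Fitting.pCore_isPGroup (G := ↥CT) 2).map toSp)
  rw [Subgroup.map_eq_bot_iff] at h
  exact h hx

end CfsgLib.Leech.Octad
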