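import Cfsg.Agent.Lib.Leech.Octad.Data
import Cfsg.Agent.Lib.Golay.MathieuFacts

/-!
Lattice vectors supported on an octad.
-/

set_option autoImplicit false
set_option maxRecDepth 20000

namespace CfsgLib.Leech.Octad

open Cfsg CfsgLib.Golay CfsgLib.Leech

attribute [local irreducible] dL bL key keyL coord packB linL bits

/-- supported on the octad -/
def InO (v : ↥leechLattice) : Prop := ∀ p, p ∉ dec oct0 → (v : GolayPt → ℤ) p = 0

theorem InO.zero : InO 0 := fun _ _ => rfl

theorem InO.add {v w : ↥leechLattice} (hv : InO v) (hw : InO w) : InO (v + w) := fun p hp => by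
  simp [hv p hp, hw p hp]

theorem InO.sub {v w : ↥leechLattice} (hv : InO v) (hw : InO w) : InO (v - w) := fun p hp => by
  simp [hv p hp, hw p hp]

theorem InO.zsmul {v : ↥leechLattice} (hv : InO v) (c : ℤ) : InO (c • v) := fun p hp => by
  simp [hv p hp]

theorem InO.sum {ι : Type*} (s : Finset ι) (f : ι → ↥leechLattice) (h : ∀ i ∈ s, InO (f i)) :
    InO (∑ i ∈ s, f i) := Finset.sum_induction f InO (fun _ _ => InO.add) InO.zero h

theorem card_oct0 : (dec oct0).card = 8 := by rw [← pop_eq_card]; decide +kernel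

theorem none_mem_oct0 : (none : GolayPt) ∈ dec oct0 := by rw [mem_dec]; decide +kernel

theorem exists_not_mem : ∃ p : GolayPt, p ∉ dec oct0 :=
  ⟨pt 4, by rw [mem_dec]; decide +kernel⟩

/-- the shape of a vector supported on the octad -/
theorem InO.shape {v : ↥leechLattice} (hv : InO v) :
    ∃ (e : ℤ) (a : GolayPt → ℤ), (∀ p ∈ dec oct0, (v : GolayPt → ℤ) p = 2 * e + 4 * a p) ∧
      2 ∣ ∑ p ∈ dec oct0, a p := by
  classical
  obtain ⟨m, hpar, hsum, hres⟩ := mem_leechLattice.1 v.2
  set x : GolayPt → ℤ := (v : GolayPt → ℤ) with hx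
  have hm : m % 2 = 0 := by
    obtain ⟨q, hq⟩ := exists_not_mem
    have := hpar q
    rw [show x q = 0 from hv q hq, Int.ModEq] at this
    omega
  have hev : ∀ p, x p % 2 = 0 := fun p => by
    have := hpar p
    rw [Int.ModEq] at this
    omega
  have htot : ∑ p, x p = ∑ p ∈ dec oct0, x p :=
    (Finset.sum_subset (Finset.subset_univ _) fun p _ hp => hv p hp).symm
  rw [htot, Int.ModEq] at hsum
  set c := Finset.univ.filter fun i => x i ≡ 2 [ZMOD 4] with hc
  have memc : ∀ p, p ∈ c ↔ x p % 4 = 2 := fun p => by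
    rw [hc, Finset.mem_filter]
    exact ⟨fun h => h.2, fun h => ⟨Finset.mem_univ p, h⟩⟩
  have hsub : c ⊆ dec oct0 := fun p hp => by
    by_contra hn
    rw [memc, show x p = 0 from hv p hn] at hp
    omega
  rcases Nat.eq_zero_or_pos c.card with h0 | hpos
  · refine ⟨0, fun p => x p / 4, fun p hp => ?_, ?_⟩
    · have h4 : p ∉ c := by rw [Finset.card_eq_zero.1 h0]; simp
      rw [memc] at h4
      have := hev p
      beta_reduce at *
      omega
    · have h4 : ∑ p ∈ dec oct0, x p = 4 * ∑ p ∈ dec oct0, x p / 4 := by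
        rw [Finset.mul_sum]
        refine Finset.sum_congr rfl fun p hp => ?_
        have hp4 : p ∉ c := by rw [Finset.card_eq_zero.1 h0]; simp
        rw [memc] at hp4
        have := hev p
        omega
      rw [h4] at hsum
      beta_reduce at *
      omega
  · have hfull : c = dec oct0 := by
      refine Finset.eq_of_subset_of_card_le hsub ?_
      rw [card_oct0]
      have := card_supports (s := c) (by convert hres 2 using 1)
      have h8 := Finset.card_le_card hsub
      rw [card_oct0] at h8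
      omega
    have hp2 : ∀ p ∈ dec oct0, x p % 4 = 2 := fun p hp => by
      have : p ∈ c := hfull ▸ hp
      rw [memc] at this
      omega
    refine ⟨1, fun p => (x p - 2) / 4, fun p hp => (?_ : x p = 2 * 1 + 4 * ((x p - 2) / 4)),
      (?_ : 2 ∣ ∑ p ∈ dec oct0, (x p - 2) / 4)⟩
    · have := hp2 p hp; beta_reduce at *; omega
    · have h4 : ∑ p ∈ dec oct0, x p = 16 + 4 * ∑ p ∈ dec oct0, (x p - 2) / 4 := by
        rw [Finset.mul_sum, show (16 : ℤ) = ∑ p ∈ dec oct0, (2 : ℤ) by
          rw [Finset.sum_const, card_oct0]; norm_num, ← Finset.sum_add_distrib]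
        refine Finset.sum_congr rfl fun p hp => ?_
        have := hp2 p hp
        omega
      rw [h4] at hsum
      beta_reduce at *
      omega

/-- scalar products on the octad are divisible by sixteen -/
theorem InO.dvd_dot {v w : ↥leechLattice} (hv : InO v) (hw : InO w) :
    (16 : ℤ) ∣ dotInt (v : GolayPt → ℤ) (w : GolayPt → ℤ) := by
  obtain ⟨e, a, ha, ⟨s, hs⟩⟩ := hv.shape
  obtain ⟨f, b, hb, ⟨t, ht⟩⟩ := hw.shape
  refine ⟨2 * e * f + s * f + t * e + ∑ p ∈ dec oct0, a p * b p, ?_⟩
  rw [show dotInt (v : GolayPt → ℤ) (w : GolayPt → ℤ) =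
      ∑ p, (v : GolayPt → ℤ) p * (w : GolayPt → ℤ) p from rfl,
    ← Finset.sum_subset (Finset.subset_univ (dec oct0)) fun p _ hp => by rw [hv p hp, zero_mul]]
  calc ∑ p ∈ dec oct0, (v : GolayPt → ℤ) p * (w : GolayPt → ℤ) p
      = ∑ p ∈ dec oct0, (4 * e * f + 8 * f * a p + 8 * e * b p + 16 * (a p * b p)) :=
        Finset.sum_congr rfl fun p hp => by rw [ha p hp, hb p hp]; ring
    _ = _ := by
      rw [Finset.sum_add_distrib, Finset.sum_add_distrib, Finset.sum_add_distrib, ← Finset.mul_sum,
        ← Finset.mul_sum, ← Finset.mul_sum, Finset.sum_const, card_oct0, hs, ht]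
      simp only [nsmul_eq_mul]
      push_cast
      simp only [← Finset.mul_sum]
      ring

/-- half the scalar product in the usual scaling, modulo two -/
def bl (v w : ↥leechLattice) : ZMod 2 :=
  ((dotInt (v : GolayPt → ℤ) (w : GolayPt → ℤ) / 16 : ℤ) : ZMod 2)

theorem bl_comm (v w : ↥leechLattice) : bl v w = bl w v := by rw [bl, bl, dotInt_comm]

theorem dot_div_add {x y z : GolayPt → ℤ} (h : (16 : ℤ) ∣ dotInt x z) :
    dotInt (x + y) z / 16 = dotInt x z / 16 + dotInt y z / 16 := by
  rw [dotInt_add_left', Int.add_ediv_of_dvd_left h]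

theorem bl_add_left {v w y : ↥leechLattice} (hv : InO v) (hy : InO y) :
    bl (v + w) y = bl v y + bl w y := by
  rw [bl, bl, bl, AddSubgroup.coe_add, dot_div_add (hv.dvd_dot hy), Int.cast_add]

theorem bl_zsmul_left {v y : ↥leechLattice} (hv : InO v) (hy : InO y) (c : ℤ) :
    bl (c • v) y = (c : ZMod 2) * bl v y := by
  rw [bl, bl, AddSubgroup.coe_zsmul, dotInt_smul_left, Int.mul_ediv_assoc _ (hv.dvd_dot hy),
    Int.cast_mul]

theorem bl_zero_left (y : ↥leechLattice) : bl 0 y = 0 := by
  rw [bl, AddSubgroup.coe_zero, dotInt_zero_left]; rfl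

theorem bl_sum_left {ι : Type*} (s : Finset ι) (f : ι → ↥leechLattice) {y : ↥leechLattice}
    (hf : ∀ i ∈ s, InO (f i)) (hy : InO y) : bl (∑ i ∈ s, f i) y = ∑ i ∈ s, bl (f i) y := by
  classical
  induction s using Finset.induction_on with
  | empty => simp [bl_zero_left]
  | insert a s ha ih =>
    rw [Finset.sum_insert ha, Finset.sum_insert ha, bl_add_left (hf a (Finset.mem_insert_self a s)) hy,
      ih fun i hi => hf i (Finset.mem_insert_of_mem hi)]

/-- the vector of a coordinate list -/
noncomputable def mkV (l : List ℤ) : ↥leechLattice :=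
  if h : inL l = true then ⟨vec l, vec_mem h⟩ else 0

theorem mkV_val {l : List ℤ} (h : inL l = true) : (mkV l : GolayPt → ℤ) = vec l := by
  rw [mkV, dif_pos h]

/-- a coordinate list supported on the octad and in the lattice -/
def goodL (l : List ℤ) : Bool :=
  inL l && (List.range 24).all fun i => oct0.testBit i || l.getD i 0 == 0

theorem goodL_inL {l : List ℤ} (h : goodL l = true) : inL l = true := by
  simp only [goodL, Bool.and_eq_true] at h; exact h.1

theorem InO.mkV {l : List ℤ} (h : goodL l = true) : InO (mkV l) := by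
  intro p hp
  rw [mkV_val (goodL_inL h)]
  simp only [goodL, Bool.and_eq_true, List.all_eq_true, List.mem_range, Bool.or_eq_true,
    beq_iff_eq] at h
  rw [mem_dec] at hp
  exact (h.2 _ (idx_lt p)).resolve_left hp

theorem dot_mkV {l l' : List ℤ} (h : inL l = true) (h' : inL l' = true) :
    dotInt (mkV l : GolayPt → ℤ) (mkV l' : GolayPt → ℤ) = dotL l l' := by
  rw [mkV_val h, mkV_val h', dotInt_vec (inL_length h) (inL_length h')]

/-- the fixed vector -/
noncomputable def uV : ↥leechLattice := mkV uL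

/-- the lifts of the symplectic basis -/
noncomputable def bV6 : Fin 3 ⊕ Fin 3 → ↥leechLattice
  | .inl i => mkV (bvL.getD i.val [])
  | .inr i => mkV (bvL.getD (3 + i.val) [])

/-- the basis on the octad -/
noncomputable def zV (j : Fin 8) : ↥leechLattice := mkV (zL.getD j.val [])

/-- the dual basis on the octad -/
noncomputable def zdV (j : Fin 8) : ↥leechLattice := mkV (zdL.getD j.val [])

theorem good_ok : goodL uL = true ∧ bvL.all goodL = true ∧ zL.all goodL = true ∧ zdL.all goodL = true ∧
    bvL.length = 6 ∧ zL.length = 8 ∧ zdL.length = 8 := by decide +kernel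

theorem good_getD {L : List (List ℤ)} (h : L.all goodL = true) {i : ℕ} (hi : i < L.length) :
    goodL (L.getD i []) = true := by
  rw [List.getD_eq_getElem _ _ hi]
  exact List.all_eq_true.1 h _ (List.getElem_mem hi)

theorem good_zL (j : Fin 8) : goodL (zL.getD j.val []) = true :=
  good_getD good_ok.2.2.1 (by rw [good_ok.2.2.2.2.2.1]; exact j.2)

theorem good_zdL (j : Fin 8) : goodL (zdL.getD j.val []) = true :=
  good_getD good_ok.2.2.2.1 (by rw [good_ok.2.2.2.2.2.2]; exact j.2)

theorem good_bvL {i : ℕ} (hi : i < 6) : goodL (bvL.getD i []) = true :=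
  good_getD good_ok.2.1 (by rw [good_ok.2.2.2.2.1]; exact hi)

theorem InO.uV : InO uV := InO.mkV good_ok.1

theorem InO.bV6 (k : Fin 3 ⊕ Fin 3) : InO (bV6 k) := by
  rcases k with i | i
  · exact InO.mkV (good_bvL (by omega))
  · exact InO.mkV (good_bvL (by omega))

theorem InO.zV (j : Fin 8) : InO (zV j) := InO.mkV (good_zL j)

theorem InO.zdV (j : Fin 8) : InO (zdV j) := InO.mkV (good_zdL j)

theorem dual_ok : ∀ p q : Fin 24, oct0.testBit p.val = true → oct0.testBit q.val = true →
    (∑ j : Fin 8, (zdL.getD j.val []).getD q.val 0 * (zL.getD j.val []).getD p.val 0) =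
      if p = q then 16 else 0 := by decide +kernel

/-- expansion in the basis on the octad -/
theorem expand {v : ↥leechLattice} (hv : InO v) :
    v = ∑ j : Fin 8, (dotInt (v : GolayPt → ℤ) (zdV j : GolayPt → ℤ) / 16) • zV j := by
  refine Subtype.ext (funext fun p => ?_)
  rw [AddSubgroup.val_finsetSum, Finset.sum_apply]
  simp only [AddSubgroup.coe_zsmul, Pi.smul_apply, smul_eq_mul]
  by_cases hp : p ∈ dec oct0
  swap
  · rw [hv p hp, Finset.sum_eq_zero fun j _ => by rw [InO.zV j p hp, mul_zero]]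
  refine mul_left_cancel₀ (show (16 : ℤ) ≠ 0 by norm_num) ?_
  rw [Finset.mul_sum, Finset.sum_congr rfl fun j _ => by
    rw [← mul_assoc, Int.mul_ediv_cancel' (hv.dvd_dot (InO.zdV j)), dotInt, Finset.sum_mul]]
  rw [Finset.sum_comm]
  have hq : ∀ q, (∑ j : Fin 8, (v : GolayPt → ℤ) q * (zdV j : GolayPt → ℤ) q * (zV j : GolayPt → ℤ) p) =
      if p = q then 16 * (v : GolayPt → ℤ) p else 0 := by
    intro q
    by_cases hq : q ∈ dec oct0
    · have h := dual_ok ⟨idx p, idx_lt p⟩ ⟨idx q, idx_lt q⟩ (mem_dec.1 hp) (mem_dec.1 hq)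
      simp only [Fin.mk.injEq, idx_injective.eq_iff] at h
      rw [show (∑ j : Fin 8, (v : GolayPt → ℤ) q * (zdV j : GolayPt → ℤ) q * (zV j : GolayPt → ℤ) p) =
          (v : GolayPt → ℤ) q * ∑ j : Fin 8, (zdL.getD j.val []).getD (idx q) 0 *
            (zL.getD j.val []).getD (idx p) 0 by
        rw [Finset.mul_sum]
        refine Finset.sum_congr rfl fun j _ => ?_
        rw [Octad.zdV, Octad.zV, mkV_val (goodL_inL (good_zdL j)), mkV_val (goodL_inL (good_zL j)), mul_assoc]
        rfl, h]
      by_cases e : p = q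
      · subst e; rw [if_pos rfl, if_pos rfl, mul_comm]
      · rw [if_neg e, if_neg e, mul_zero]
    · have e : p ≠ q := fun e => hq (e ▸ hp)
      rw [if_neg e, Finset.sum_eq_zero fun j _ => by rw [hv q hq, zero_mul, zero_mul]]
  rw [Finset.sum_congr rfl fun q _ => hq q, Finset.sum_ite_eq, if_pos (Finset.mem_univ p)]

end CfsgLib.Leech.Octad
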